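import Cfsg.Agent.Lib.Linear.ShortPres.SUThree.RootGroup

/-!
# The rank one cells and the covering of the three dimensional group
-/

set_option autoImplicit false
set_option linter.unusedSectionVars false

namespace Cfsg.Lib.Linear.ShortPres.SUThree

open Matrix Polynomial Cfsg.Lib.Linear.SUDegree Cfsg.Lib.Linear.Herm Cfsg.Lib.Linear.ShortPres.SUN
open Cfsg.Lib.Linear.ShortPres.SUN.ParData (u0 levC cell_u0)

variable {F : Type*} [Field F] [Fintype F] {J : Conj F} {G : Type*} [Group G]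

theorem cell_model {g : M3 J} {c v : F} (hg : U0 J g c v) (hc : c ≠ 0) :
    ∃ (A B : M3 J) (i : F), i ≠ 0 ∧ U0 J A (-J.η ^ 2 / c) (J.η * v / J.σ c) ∧ U0 J B (-J.η ^ 2 / c) (J.η * v / c) ∧
      tM J 1 0 * g * (tM J 1 0)⁻¹ = A * lv J i * tM J 1 0 * B := by
  obtain ⟨h, rfl⟩ := hg
  obtain ⟨ha, hb, e⟩ := cell_u0 (m := 1) h hc
  obtain ⟨hi, el⟩ := lM_eq_lv (levC (J := J) (m := 1) hc)
  exact ⟨_, _, _, hi, U0.of_rel ha, U0.of_rel hb, by rw [e, el]⟩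

/-- A cover with the torus and the reflection. -/
structure TD (Q : Pm J) (p e : ℕ) (π : G →* M3 J) extends UD Q p e π where
  t : G
  πt : π t = tM J 1 (0 : Fin 1)
  e0 : ℕ
  th : t * h * t⁻¹ = h ^ e0
  tsq : t * t ∈ Subgroup.zpowers h

namespace TD

variable {Q : Pm J} {p e : ℕ} {π : G →* M3 J} (D : TD Q p e π)

/-- The parabolic subgroup. -/
def P : Subgroup G := D.U ⊔ Subgroup.zpowers D.h

theorem h_mem (i : ℕ) : D.h ^ i ∈ D.P := Subgroup.mem_sup_right (Subgroup.npow_mem_zpowers _ _)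

theorem U_le : D.U ≤ D.P := le_sup_left

theorem U_conj {u : G} (hu : u ∈ D.U) (k : ℕ) :
    D.h ^ k * u * (D.h ^ k)⁻¹ ∈ D.U ∧ (D.h ^ k)⁻¹ * u * D.h ^ k ∈ D.U := by
  have hn := Subgroup.pow_mem _ (D.h_norm D.x) k
  refine ⟨(Subgroup.mem_normalizer_iff.1 hn u).1 hu, (Subgroup.mem_normalizer_iff.1 hn _).2 ?_⟩
  have e : D.h ^ k * ((D.h ^ k)⁻¹ * u * D.h ^ k) * (D.h ^ k)⁻¹ = u := by group
  rw [e]; exact hu

theorem zpow_eq_pow {g : G} (hg : g ∈ Subgroup.zpowers D.h) : ∃ k : ℕ, g = D.h ^ k := by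
  have hfo : IsOfFinOrder D.h := isOfFinOrder_iff_pow_eq_one.2 ⟨_, orderOf_pos_gen Q, D.hN⟩
  obtain ⟨k, hk⟩ := hfo.mem_powers_iff_mem_zpowers.2 hg
  exact ⟨k, hk.symm⟩

theorem mem_P {g : G} (hg : g ∈ D.P) : ∃ u ∈ D.U, ∃ k : ℕ, g = u * D.h ^ k := by
  have hn : Subgroup.zpowers D.h ≤ Subgroup.normalizer (D.U : Set G) := Subgroup.zpowers_le.2 (D.h_norm D.x)
  rw [P, ← SetLike.mem_coe, Subgroup.coe_mul_of_right_le_normalizer_left _ _ hn, Set.mem_mul] at hg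
  obtain ⟨u, hu, w, hw, rfl⟩ := hg
  obtain ⟨k, rfl⟩ := D.zpow_eq_pow hw
  exact ⟨u, hu, k, rfl⟩

theorem π_hpow (k : ℕ) : π (D.h ^ k) = lv J (Q.ζ ^ k) := by
  rw [map_pow, D.πh, hM, lv_pow Q.ζ_ne]

theorem kf_P {g : G} (hg : g ∈ D.P) : kf (π g) = 0 := by
  obtain ⟨u, hu, k, rfl⟩ := D.mem_P hg
  obtain ⟨c, v, hr, e⟩ := D.img_U hu
  rw [map_mul, D.π_hpow, e, lv_eq (pow_ne_zero _ Q.ζ_ne), u0, kf_uM_mul]
  exact kf_lM _

theorem inj_P {g : G} (hg : g ∈ D.P) (h : π g = 1) : g = 1 := by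
  obtain ⟨u, hu, k, rfl⟩ := D.mem_P hg
  obtain ⟨c, v, he⟩ := D.img_U hu
  rw [map_mul, D.π_hpow, mul_eq_one_iff_eq_inv, lv_inv (pow_ne_zero _ Q.ζ_ne)] at h
  obtain ⟨hc, hv, ha⟩ := he.eq_lv (inv_ne_zero (pow_ne_zero _ Q.ζ_ne)) h
  have hk : Q.ζ ^ k = 1 := inv_eq_one.1 ha
  obtain ⟨j, rfl⟩ := orderOf_dvd_of_pow_eq_one hk
  rw [pow_mul, D.hN, one_pow, mul_one]
  exact D.inj_U hu (by rw [h, ha, lv_one])

theorem eq_P {a b : G} (ha : a ∈ D.P) (hb : b ∈ D.P) (e : π a = π b) : a = b :=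
  mul_inv_eq_one.1 (D.inj_P (mul_mem ha (inv_mem hb)) (by rw [map_mul, map_inv, e, mul_inv_cancel]))

theorem t_pow (k : ℕ) : D.t * D.h ^ k * D.t⁻¹ = D.h ^ (D.e0 * k) := by
  rw [← conj_pow, D.th, ← pow_mul]

theorem tsq_P : D.t * D.t ∈ D.P := Subgroup.mem_sup_right D.tsq

theorem compat {g : G} (hg : g ∈ D.P) (hk : kf (tM J 1 0 * π g * (tM J 1 0)⁻¹) = 0) : D.t * g * D.t⁻¹ ∈ D.P := by
  obtain ⟨u, hu, k, rfl⟩ := D.mem_P hg
  obtain ⟨c, v, he⟩ := D.img_U hu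
  rw [map_mul, D.π_hpow] at hk
  obtain ⟨rfl, rfl⟩ := kf_conj_ne he (pow_ne_zero _ Q.ζ_ne) hk
  rw [D.inj_U hu (he.unique U0.one), one_mul, D.t_pow]
  exact D.h_mem _

theorem compat_inv {g : G} (hg : g ∈ D.P) (hk : kf ((tM J 1 0)⁻¹ * π g * tM J 1 0) = 0) :
    D.t⁻¹ * g * D.t ∈ D.P := by
  have hk' : kf (π (D.t * D.t)) = 0 := D.kf_P D.tsq_P
  have h2 : kf (tM J 1 0 * π g * (tM J 1 0)⁻¹) = 0 := by
    have e : tM J 1 0 * π g * (tM J 1 0)⁻¹ =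
        π (D.t * D.t) * ((tM J 1 0)⁻¹ * π g * tM J 1 0) * (π (D.t * D.t))⁻¹ := by
      rw [map_mul, D.πt]; group
    rw [e]
    exact kf_mul le_rfl (kf_mul le_rfl hk' hk) (kf_inv le_rfl hk')
  have : D.t⁻¹ * g * D.t = (D.t * D.t)⁻¹ * (D.t * g * D.t⁻¹) * (D.t * D.t) := by group
  rw [this]
  exact mul_mem (mul_mem (inv_mem D.tsq_P) (D.compat hg h2)) D.tsq_P

/-- An element has a cell. -/
def Cell (u : G) : Prop := ∃ a ∈ D.P, ∃ b ∈ D.P, D.t * u * D.t⁻¹ = a * D.t * b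

/-- Every element over the image has a cell. -/
def Known (c v : F) : Prop := ∀ u ∈ D.U, U0 J (π u) c v → D.Cell u

theorem Cell.exact {u a b : G} (hc : D.Cell u) (ha : a ∈ D.P) (hb : b ∈ D.P)
    (e : π (D.t * u * D.t⁻¹) = π (a * D.t * b)) : D.t * u * D.t⁻¹ = a * D.t * b := by
  obtain ⟨a', ha', b', hb', e'⟩ := hc
  rw [e'] at e ⊢
  have hg : a⁻¹ * a' ∈ D.P := mul_mem (inv_mem ha) ha'
  have e2 : (tM J 1 0)⁻¹ * π (a⁻¹ * a') * tM J 1 0 = π (b * b'⁻¹) := by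
    simp only [map_mul, map_inv, D.πt] at e ⊢
    rw [eq_mul_inv_iff_mul_eq, ← mul_right_inj (π a * tM J 1 0)]
    rw [← e]; group
  have h3 := D.compat_inv hg (by rw [e2]; exact D.kf_P (mul_mem hb (inv_mem hb')))
  have h4 := D.eq_P h3 (mul_mem hb (inv_mem hb')) (by rw [map_mul, map_mul, map_inv, D.πt, e2])
  calc a' * D.t * b' = a * D.t * (D.t⁻¹ * (a⁻¹ * a') * D.t) * b' := by group
    _ = _ := by rw [h4]; group

theorem Known.of_one {c v : F} {u : G} (hu : u ∈ D.U) (he : U0 J (π u) c v) (hc : D.Cell u) : D.Known c v :=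
  fun u' hu' he' => by rwa [D.eq_U hu' hu (he'.unique he)]

theorem Known.torus {c v : F} (hk : D.Known c v) {l : F} (hl : l ≠ 0) :
    D.Known (l * J.σ l * c) (l ^ 2 / J.σ l * v) := by
  intro u hu he
  obtain ⟨i, hi⟩ := Q.gen l hl
  subst hi
  have hli : (Q.ζ ^ i)⁻¹ ≠ 0 := inv_ne_zero hl
  have hsl : J.σ (Q.ζ ^ i) ≠ 0 := by simpa using hl
  have he' : U0 J (π ((D.h ^ i)⁻¹ * u * D.h ^ i)) c v := by
    have h := (he.lv_conj (a := (Q.ζ ^ i)⁻¹) hli).congr (c' := c) (v' := v)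
      (by rw [map_inv₀]; field_simp) (by rw [map_inv₀]; field_simp)
    rw [← lv_inv hl, inv_inv] at h
    rwa [map_mul, map_mul, map_inv, D.π_hpow]
  obtain ⟨a, ha, b, hb, hc⟩ := hk _ (D.U_conj hu i).2 he'
  refine ⟨D.h ^ (D.e0 * i) * a, mul_mem (D.h_mem _) ha, b * (D.h ^ (D.e0 * i))⁻¹, mul_mem hb (inv_mem (D.h_mem _)), ?_⟩
  calc D.t * u * D.t⁻¹ = D.t * D.h ^ i * D.t⁻¹ * (D.t * ((D.h ^ i)⁻¹ * u * D.h ^ i) * D.t⁻¹) *
        (D.t * D.h ^ i * D.t⁻¹)⁻¹ := by group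
    _ = _ := by rw [hc, D.t_pow]; group

theorem surj_lv {a : F} (ha : a ≠ 0) : ∃ l ∈ D.P, π l = lv J a ∧ D.t * l * D.t⁻¹ ∈ D.P := by
  obtain ⟨i, rfl⟩ := Q.gen a ha
  exact ⟨_, D.h_mem i, D.π_hpow i, by rw [D.t_pow]; exact D.h_mem _⟩

/-- The product rule. -/
theorem Known.mul {c v β : F} (h : c + J.σ c + v * J.σ v = 0) (hc : c ≠ 0) (hβ : β ≠ 0) (hβs : J.σ β = -β)
    (k1 : D.Known c v) (k2 : D.Known β 0) (k3 : D.Known (-J.η ^ 2 / c + -J.η ^ 2 / β) (J.η * v / c)) :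
    D.Known (c + β) v := by
  intro u hu he
  have h2 : β + J.σ β + (0 : F) * J.σ 0 = 0 := by rw [hβs]; simp
  obtain ⟨u1, hu1, he1⟩ := D.surj_U h
  obtain ⟨u2, hu2, he2⟩ := D.surj_U h2
  obtain ⟨A1, B1, i1, hi1, hA1, hB1, e1⟩ := cell_model he1 hc
  obtain ⟨A2, B2, i2, hi2, hA2, hB2, e2⟩ := cell_model he2 hβ
  obtain ⟨x1, hx1, hπx1⟩ := D.surj_U hA1.rel
  obtain ⟨y1, hy1, hπy1⟩ := D.surj_U hB1.rel
  obtain ⟨x2, hx2, hπx2⟩ := D.surj_U hA2.rel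
  obtain ⟨y2, hy2, hπy2⟩ := D.surj_U hB2.rel
  obtain ⟨l1, hl1, hπl1, -⟩ := D.surj_lv hi1
  obtain ⟨l2, hl2, hπl2, ht2⟩ := D.surj_lv hi2
  have c1 := (k1 u1 hu1 he1).exact D (mul_mem (D.U_le hx1) hl1) (D.U_le hy1) (by
    simp only [map_mul, map_inv, D.πt, hπx1.unique hA1, hπy1.unique hB1, hπl1, e1])
  have c2 := (k2 u2 hu2 he2).exact D (mul_mem (D.U_le hx2) hl2) (D.U_le hy2) (by
    simp only [map_mul, map_inv, D.πt, hπx2.unique hA2, hπy2.unique hB2, hπl2, e2])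
  have hu12 : u = u1 * u2 := D.eq_U hu (mul_mem hu1 hu2) (by
    rw [map_mul]
    exact he.unique ((he1.mul he2).congr (by simp) (by simp)))
  obtain ⟨a, ha, b, hb, c3⟩ := k3 (y1 * x2) (mul_mem hy1 hx2) (by
    rw [map_mul]
    exact (hπy1.mul hπx2).congr (by simp) (by simp))
  refine ⟨x1 * l1 * a, mul_mem (mul_mem (D.U_le hx1) hl1) ha, b * (D.t * l2 * D.t⁻¹) * (D.t * D.t) * y2,
    mul_mem (mul_mem (mul_mem hb ht2) D.tsq_P) (D.U_le hy2), ?_⟩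
  calc D.t * u * D.t⁻¹ = (D.t * u1 * D.t⁻¹) * (D.t * u2 * D.t⁻¹) := by rw [hu12]; group
    _ = x1 * l1 * (D.t * (y1 * x2) * D.t⁻¹) * (D.t * l2 * D.t⁻¹) * (D.t * D.t) * y2 := by rw [c1, c2]; group
    _ = _ := by rw [c3]; group

theorem κ_ne : Q.κ ≠ 0 := fun h => by simpa [h] using Q.hκ

theorem κ_ratio : -J.σ Q.κ / Q.κ = J.σ Q.ζ / Q.ζ := by
  have hκ0 := κ_ne (Q := Q)
  have hz := Q.ζ_ne
  have hsz := sζ_ne Q
  have hne := J.η_ne
  have hv := Q.v0_ne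
  have hsv : J.σ Q.v0 ≠ 0 := by simpa using hv
  have h0 := Q.hc0
  have h1 := congrArg J.σ h0
  rw [map_mul, map_mul, map_div₀, J.inv2, J.inv2, J.η_skew] at h1
  field_simp at h0 h1 ⊢
  refine mul_right_cancel₀ (mul_ne_zero hv hsv) ?_
  first
    | linear_combination -h1 - h0
    | linear_combination h1 + h0
    | linear_combination -h1 + h0
    | linear_combination h1 - h0

/-- All cells from the basic ones. -/
theorem all_cells (kη : D.Known J.η 0)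
    (kb : ∀ r < 3, D.Known (Q.κ * (Q.ζ ^ r * J.σ (Q.ζ ^ r))) (Q.ζ ^ r)) :
    ∀ u ∈ D.U, u = 1 ∨ D.Cell u := by
  have hne := J.η_ne
  have hκ0 := κ_ne (Q := Q)
  have hz : ∀ β, β ≠ 0 → J.σ β = -β → D.Known β 0 := by
    intro β hβ hs
    obtain ⟨l, hl⟩ := Q.norm (β / J.η) (by rw [map_div₀, hs, J.η_skew, neg_div_neg_eq])
    have hl0 : l ≠ 0 := fun e => by rw [e, mul_zero] at hl; exact div_ne_zero hβ hne hl.symm
    have := Known.torus D kη hl0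
    rwa [mul_comm l, hl, div_mul_cancel₀ _ hne, mul_zero] at this
  let Kr : F → Prop := fun ρ => ∀ c v, c + J.σ c + v * J.σ v = 0 → v ≠ 0 → -J.σ c / c = ρ → D.Known c v
  have hc0 : ∀ {c v : F}, c + J.σ c + v * J.σ v = 0 → v ≠ 0 → c ≠ 0 := by
    intro c v h hv e
    subst e
    simp at h
    exact hv h
  have huniq : ∀ {c c' v : F}, c + J.σ c + v * J.σ v = 0 → c' + J.σ c' + v * J.σ v = 0 → v ≠ 0 →
      -J.σ c / c = -J.σ c' / c' → c = c' := by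
    intro c c' v h h' hv e
    have hc := hc0 h hv
    have hc' := hc0 h' hv
    have e' : J.σ c * c' = J.σ c' * c := by field_simp at e; linear_combination -e
    have hvv : v * J.σ v ≠ 0 := mul_ne_zero hv (by simpa using hv)
    refine mul_right_cancel₀ hvv ?_
    linear_combination c * h' - c' * h + e'
  set ρ₁ := J.σ Q.ζ / Q.ζ with hρ₁def
  have hrel : ∀ v : F, Q.κ * (v * J.σ v) + J.σ (Q.κ * (v * J.σ v)) + v * J.σ v = 0 := fun v => by
    rw [map_mul, map_mul, J.inv2]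
    linear_combination (v * J.σ v) * Q.hκ
  have hrat : ∀ v : F, v ≠ 0 → -J.σ (Q.κ * (v * J.σ v)) / (Q.κ * (v * J.σ v)) = ρ₁ := fun v hv => by
    have hsv : J.σ v ≠ 0 := by simpa using hv
    rw [hρ₁def, ← κ_ratio, map_mul, map_mul, J.inv2]
    field_simp
  have hbase : Kr ρ₁ := by
    intro c v h hv hρ
    rw [huniq h (hrel v) hv (hρ.trans (hrat v hv).symm)]
    obtain ⟨i, rfl⟩ := Q.gen v hv
    have hζ := Q.ζ_ne
    have hsζ := sζ_ne Q
    have hl : (Q.ζ ^ 2 * J.σ Q.ζ) ^ (i / 3) ≠ 0 := pow_ne_zero _ (mul_ne_zero (pow_ne_zero _ hζ) hsζ)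
    have := Known.torus D (kb (i % 3) (Nat.mod_lt _ (by norm_num))) hl
    have hff : ((Q.ζ ^ 2 * J.σ Q.ζ) ^ (i / 3)) ^ 2 / J.σ ((Q.ζ ^ 2 * J.σ Q.ζ) ^ (i / 3)) = Q.ζ ^ (3 * (i / 3)) := by
      rw [map_pow, map_mul, map_pow, J.inv2, ← pow_mul, mul_comm _ 2, pow_mul, ← div_pow, pow_mul Q.ζ 3]
      congr 1
      field_simp
    have hv' : Q.ζ ^ i = ((Q.ζ ^ 2 * J.σ Q.ζ) ^ (i / 3)) ^ 2 / J.σ ((Q.ζ ^ 2 * J.σ Q.ζ) ^ (i / 3)) * Q.ζ ^ (i % 3) := by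
      rw [hff, ← pow_add, Nat.div_add_mod]
    rw [← hv'] at this
    convert this using 1
    have hsl : J.σ ((Q.ζ ^ 2 * J.σ Q.ζ) ^ (i / 3)) ≠ 0 := by simpa using hl
    rw [hv']
    generalize (Q.ζ ^ 2 * J.σ Q.ζ) ^ (i / 3) = L at hl hsl ⊢
    generalize Q.ζ ^ (i % 3) = w
    rw [map_mul J.σ (L ^ 2 / J.σ L) w, map_div₀, map_pow, J.inv2]
    field_simp
  have hstep : ∀ σ', Kr σ' → ρ₁ * σ' ≠ 1 → σ' ≠ 1 → Kr (ρ₁ * σ') := by
    intro σ' kσ hne1 hσ1 d v hd hv hdρ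
    obtain ⟨c, hcdef⟩ : ∃ c, c = Q.κ * (v * J.σ v) := ⟨_, rfl⟩
    have h : c + J.σ c + v * J.σ v = 0 := hcdef ▸ hrel v
    have hρ : -J.σ c / c = ρ₁ := hcdef ▸ hrat v hv
    have hc := hc0 h hv
    have hd0 := hc0 hd hv
    have hsc : J.σ c ≠ 0 := by simpa using hc
    have hρ0 : ρ₁ ≠ 0 := by rw [← hρ]; exact div_ne_zero (neg_ne_zero.2 hsc) hc
    set β := d - c with hβdef
    have hβ : β ≠ 0 := fun e => by
      rw [sub_eq_zero] at e
      rw [e, hρ] at hdρ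
      exact hσ1 (mul_left_cancel₀ hρ0 (hdρ.symm.trans (mul_one _).symm))
    have hβs : J.σ β = -β := by rw [hβdef, map_sub]; linear_combination hd - h
    clear_value β
    obtain ⟨u1, -, he1⟩ := D.surj_U h
    obtain ⟨-, B, -, -, -, hB, -⟩ := cell_model he1 hc
    have h3rel : -J.η ^ 2 / c + -J.η ^ 2 / β + J.σ (-J.η ^ 2 / c + -J.η ^ 2 / β) +
        J.η * v / c * J.σ (J.η * v / c) = 0 := by
      have hb₁ := hB.rel
      rw [map_add, map_div₀ J.σ (-J.η ^ 2) β, hβs, map_neg, map_pow, J.η_skew] at *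
      linear_combination hb₁
    have hcd : c + β = d := by rw [hβdef]; ring
    have k3 := kσ _ _ h3rel (div_ne_zero (mul_ne_zero hne hv) hc) (by
      refine mul_left_cancel₀ hρ0 ?_
      rw [← hdρ, ← hρ, map_add, map_div₀, map_div₀, map_neg, map_pow, J.η_skew, hβs,
        show J.σ d = J.σ c + -β by rw [← hcd, map_add, hβs], ← hcd]
      have : c + β ≠ 0 := by rw [hcd]; exact hd0
      have h4 : β + c ≠ 0 := by rwa [add_comm]
      have eden : -J.η ^ 2 / c + -J.η ^ 2 / β = -J.η ^ 2 * (c + β) / (c * β) := by field_simp; ring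
      have enum : -(-J.η) ^ 2 / J.σ c + -(-J.η) ^ 2 / -β = -J.η ^ 2 * (J.σ c - β) / (J.σ c * -β) := by
        field_simp; ring
      rw [eden, enum]
      field_simp
      ring)
    have := Known.mul D h hc hβ hβs (hbase c v h hv hρ) (hz β hβ hβs) k3
    rwa [hcd] at this
  have hpow : ∀ i : ℕ, ρ₁ ^ i = 1 ∨ Kr (ρ₁ ^ i) := by
    intro i
    induction i with
    | zero => exact Or.inl (pow_zero _)
    | succ i ih =>
      by_cases h1 : ρ₁ ^ (i + 1) = 1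
      · exact Or.inl h1
      refine Or.inr ?_
      by_cases hi1 : ρ₁ ^ i = 1
      · rw [pow_succ, hi1, one_mul]; exact hbase
      · rw [pow_succ']
        exact hstep _ (ih.resolve_left hi1) (by rwa [← pow_succ']) hi1
  intro u hu
  obtain ⟨c, v, he⟩ := D.img_U hu
  rcases eq_or_ne v 0 with rfl | hv
  · rcases eq_or_ne c 0 with rfl | hc
    · exact Or.inl (D.inj_U hu (he.unique U0.one))
    · exact Or.inr (hz c hc (by have := he.rel; simp at this; linear_combination this) u hu he)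
  · refine Or.inr ?_
    have hr := he.rel
    have hc := hc0 hr hv
    obtain ⟨i, hi⟩ := Q.gen (J.η * c) (mul_ne_zero hne hc)
    have e : -J.σ c / c = ρ₁ ^ i := by
      rw [hρ₁def, div_pow, ← map_pow, hi, map_mul, J.η_skew]; field_simp
    rcases hpow i with h1 | hk
    · exfalso
      rw [h1, div_eq_one_iff_eq hc] at e
      exact mul_ne_zero hv (show J.σ v ≠ 0 by simpa using hv) (by linear_combination hr + e)
    · exact hk c v hr hv e u hu he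

/-- The covering. -/
theorem covered (hgen : Subgroup.closure ({D.x, D.h, D.t} : Set G) = ⊤) (hcell : ∀ u ∈ D.U, u = 1 ∨ D.Cell u)
    (g : G) : g ∈ D.P ∨ ∃ a ∈ D.P, ∃ b ∈ D.U, g = a * D.t * b := by
  let R : G → Prop := fun g => g ∈ D.P ∨ ∃ a ∈ D.P, ∃ b ∈ D.U, g = a * D.t * b
  have hleft : ∀ z ∈ D.P, ∀ g, R g → R (z * g) := by
    rintro z hz g (hg | ⟨a, ha, b, hb, rfl⟩)
    · exact Or.inl (mul_mem hz hg)
    · exact Or.inr ⟨z * a, mul_mem hz ha, b, hb, by simp [mul_assoc]⟩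
  have hflip : ∀ k, D.t * D.h ^ k = D.h ^ (D.e0 * k) * D.t := fun k => mul_inv_eq_iff_eq_mul.1 (D.t_pow k)
  have hnorm : ∀ a ∈ D.P, ∀ b ∈ D.P, ∀ y ∈ D.U, ∃ a' ∈ D.P, ∃ b' ∈ D.U, a * D.t * b * y = a' * D.t * b' := by
    intro a ha b hb y hy
    obtain ⟨u, hu, k, rfl⟩ := D.mem_P hb
    refine ⟨a * D.h ^ (D.e0 * k), mul_mem ha (D.h_mem _), (D.h ^ k)⁻¹ * u * D.h ^ k * y,
      mul_mem (D.U_conj hu k).2 hy, ?_⟩
    calc a * D.t * (u * D.h ^ k) * y = a * (D.t * D.h ^ k) * ((D.h ^ k)⁻¹ * u * D.h ^ k * y) := by group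
      _ = _ := by rw [hflip]; group
  have hleftT : ∀ g, R g → R (D.t * g) := by
    rintro g (hg | ⟨a, ha, b, hb, rfl⟩)
    · obtain ⟨u, hu, k, rfl⟩ := D.mem_P hg
      refine Or.inr ⟨D.h ^ (D.e0 * k), D.h_mem _, (D.h ^ k)⁻¹ * u * D.h ^ k, (D.U_conj hu k).2, ?_⟩
      rw [← hflip]; group
    · obtain ⟨u, hu, k, rfl⟩ := D.mem_P ha
      have e1 : D.t * (u * D.h ^ k * D.t * b) =
          (D.t * u * D.t⁻¹) * ((D.t * D.h ^ k * D.t⁻¹) * (D.t * D.t)) * b := by group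
      rw [e1, D.t_pow]
      have hw : D.h ^ (D.e0 * k) * (D.t * D.t) ∈ D.P := mul_mem (D.h_mem _) D.tsq_P
      rcases hcell u hu with rfl | ⟨a', ha', b', hb', e'⟩
      · rw [mul_one, mul_inv_cancel, one_mul]
        exact Or.inl (mul_mem hw (D.U_le hb))
      · rw [e', mul_assoc (a' * D.t)]
        exact Or.inr (hnorm a' ha' _ (mul_mem hb' hw) b hb)
  show R g
  have hmem : g ∈ Subgroup.closure ({D.x, D.h, D.t} : Set G) := by rw [hgen]; trivial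
  have hx : D.x ∈ D.P := D.U_le (self_mem _ _)
  have hh : D.h ∈ D.P := by simpa using D.h_mem 1
  induction hmem using Subgroup.closure_induction_left with
  | one => exact Or.inl (one_mem _)
  | mul_left x hx' y _ ih =>
    simp only [Set.mem_insert_iff, Set.mem_singleton_iff] at hx'
    rcases hx' with rfl | rfl | rfl
    · exact hleft _ hx y ih
    · exact hleft _ hh y ih
    · exact hleftT y ih
  | inv_mul_cancel x hx' y _ ih =>
    simp only [Set.mem_insert_iff, Set.mem_singleton_iff] at hx'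
    rcases hx' with rfl | rfl | rfl
    · exact hleft _ (inv_mem hx) y ih
    · exact hleft _ (inv_mem hh) y ih
    · have e : D.t⁻¹ * y = (D.t * D.t)⁻¹ * (D.t * y) := by group
      rw [e]
      exact hleft _ (inv_mem D.tsq_P) _ (hleftT y ih)

/-- The cover is an isomorphism. -/
theorem injective (hgen : Subgroup.closure ({D.x, D.h, D.t} : Set G) = ⊤) (kη : D.Known J.η 0)
    (kb : ∀ r < 3, D.Known (Q.κ * (Q.ζ ^ r * J.σ (Q.ζ ^ r))) (Q.ζ ^ r)) : Function.Injective π := by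
  rw [injective_iff_map_eq_one]
  intro g hg
  rcases D.covered hgen (D.all_cells kη kb) g with hP | ⟨a, ha, b, hb, rfl⟩
  · exact D.inj_P hP hg
  · exfalso
    rw [map_mul, map_mul, D.πt] at hg
    refine kf_tM (J := J) ?_
    have e : tM J 1 (0 : Fin 1) = π a⁻¹ * π b⁻¹ := by
      rw [map_inv, map_inv, eq_inv_mul_iff_mul_eq, eq_inv_iff_mul_eq_one]
      exact hg
    rw [e, ← map_mul]
    exact D.kf_P (mul_mem (inv_mem ha) (inv_mem (D.U_le hb)))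

end TD

end Cfsg.Lib.Linear.ShortPres.SUThree
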