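import Cfsg.Agent.Lib.Linear.ShortPres.SUThree.Pres
import Cfsg.Agent.Lib.Linear.ShortPres.SUN.Field

/-!
# Short presentations of the three dimensional unitary groups
-/

set_option autoImplicit false

universe u

namespace Cfsg.Lib.Linear.ShortPres.SUThree

open Matrix Cfsg.Lib.Linear.SUDegree Cfsg.Lib.Linear.Herm Cfsg.Lib.Linear.ShortPres.SUN

variable {F : Type u} [Field F] [Fintype F] {q : ℕ}

theorem orderOf_gen {J : Conj F} (Q : Pm J) : orderOf Q.ζ = Fintype.card F - 1 := by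
  classical
  set ν : Fˣ := Units.mk0 Q.ζ Q.ζ_ne with hν
  have htop : Subgroup.zpowers ν = ⊤ := by
    rw [eq_top_iff]
    intro a _
    obtain ⟨i, hi⟩ := Q.gen a a.ne_zero
    have : a = ν ^ i := Units.ext (by simp [hν, hi])
    rw [this]
    exact Subgroup.npow_mem_zpowers _ _
  have h : orderOf ν = Fintype.card F - 1 := by
    rw [← Nat.card_zpowers, htop, Subgroup.card_top, Nat.card_eq_fintype_card, Fintype.card_units]
  rwa [← orderOf_units, hν, Units.val_mk0] at h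

theorem phi_not_fix (hF : Fintype.card F = q ^ 2) (h2 : q ≠ 2) {J : Conj F} (hJ : J.σ = frob hF) (Q : Pm J) :
    J.σ (phi Q) ≠ phi Q := by
  intro h
  have hq2 := two_le_q hF
  have hz := Q.ζ_ne
  have hsz := sζ_ne Q
  rw [phi, map_div₀, map_pow, J.inv2] at h
  field_simp at h
  have h3 : Q.ζ ^ (3 * q) = Q.ζ ^ 3 := by
    rw [mul_comm, pow_mul, ← frob_apply hF, ← hJ]
    linear_combination h
  have h1 : Q.ζ ^ (3 * q - 3) = 1 := by
    have : Q.ζ ^ (3 * q - 3) * Q.ζ ^ 3 = 1 * Q.ζ ^ 3 := by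
      rw [← pow_add, Nat.sub_add_cancel (by omega), h3, one_mul]
    exact mul_right_cancel₀ (pow_ne_zero _ hz) this
  have hle := Nat.le_of_dvd (by omega) (orderOf_dvd_of_pow_eq_one h1)
  rw [orderOf_gen Q, hF] at hle
  have h33 : 3 ≤ q := by omega
  have : 3 * q ≤ q ^ 2 := by rw [pow_two]; exact Nat.mul_le_mul_right q h33
  omega

/-- The three dimensional special unitary groups. -/
theorem bddG_SU3 (hF : Fintype.card F = q ^ 2) (h2 : q ≠ 2) : BddG ↥(Cfsg.SU 3 F q) 3 21 := by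
  obtain ⟨J, hJ⟩ := exists_conj hF
  obtain ⟨Q⟩ := exists_pm hF hJ
  obtain ⟨p, hp⟩ := CharP.exists F
  haveI := hp
  haveI : Fact p.Prime := ⟨CharP.char_is_prime F p⟩
  obtain ⟨e⟩ := equiv_SU hF hJ (m := 1) (ε := 1) (n := 3) rfl
  exact ((bddOn_M3 (phi_not_fix hF h2 hJ Q) p).bddG).of_equiv e

end Cfsg.Lib.Linear.ShortPres.SUThree
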