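import Cfsg.Agent.Lib.Linear.ShortPres.SUN.OddWords
import Cfsg.Agent.Lib.Linear.ShortPres.SUN.Cells
import Cfsg.Agent.Lib.Linear.ShortPres.Root

/-!
# The model of the three dimensional special unitary group
-/

set_option autoImplicit false
set_option linter.unusedSectionVars false

namespace Cfsg.Lib.Linear.ShortPres.SUThree

open Matrix Polynomial Cfsg.Lib.Linear.SUDegree Cfsg.Lib.Linear.Herm Cfsg.Lib.Linear.ShortPres.SUN
open Cfsg.Lib.Linear.ShortPres.SUN.ParData (u0 u0_mul u0_inv u0_congr kf_u0 levC cell_u0)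
open scoped commutatorElement

variable {F : Type*} [Field F] [Fintype F] (J : Conj F)

/-- The model group. -/
abbrev M3 : Type _ := ↥(Mg J 1 1)

variable {J}

theorem levA (a : F) (ha : a ≠ 0) : LevOK J 1 (g0 (m := 1) a ha) (J.σ a / a) := by
  have hsa : J.σ a ≠ 0 := by simpa using ha
  refine ⟨?_, ?_⟩
  · rw [map_div₀, J.inv2]; field_simp
  · rw [g0_coe, g0_inv_coe, d0_det, d0_det, pow_one, map_inv₀]; field_simp

variable (J) in
/-- The torus. -/
noncomputable def lv (a : F) : M3 J := open Classical in if ha : a = 0 then 1 else lM (levA a ha)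

theorem lv_eq {a : F} (ha : a ≠ 0) : lv J a = lM (levA (J := J) a ha) := dif_neg ha

theorem d0_one_eq (A : Matrix (Fin 1) (Fin 1) F) : A = d0 (A 0 0) := by
  ext i j
  rw [Subsingleton.elim i 0, Subsingleton.elim j 0]
  simp [d0]

/-- Every Levi element is in the torus. -/
theorem lM_eq_lv {C : GL (Fin 1) F} {μ : F} (h : LevOK J 1 C μ) :
    C.1 0 0 ≠ 0 ∧ (lM h : M3 J) = lv J (C.1 0 0) := by
  have hc : C.1 0 0 ≠ 0 := by
    have := h.det_ne
    rwa [Matrix.det_fin_one] at this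
  exact ⟨hc, by rw [lv_eq hc]; exact lM_congr le_rfl h _ (d0_one_eq C.1)⟩

theorem lv_mul {a b : F} (ha : a ≠ 0) (hb : b ≠ 0) : lv J a * lv J b = lv J (a * b) := by
  rw [lv_eq ha, lv_eq hb, lv_eq (mul_ne_zero ha hb)]
  obtain ⟨h', e⟩ := lM_mul (levA (J := J) a ha) (levA b hb)
  rw [e]
  exact lM_congr le_rfl _ _ (by rw [Units.val_mul, g0_coe, g0_coe, g0_coe, d0_mul])

theorem lv_one : lv J 1 = 1 := by
  have := lv_mul (J := J) (one_ne_zero (α := F)) (one_ne_zero (α := F))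
  rw [mul_one] at this
  exact mul_eq_left.1 this

theorem lv_pow {a : F} (ha : a ≠ 0) (i : ℕ) : lv J a ^ i = lv J (a ^ i) := by
  induction i with
  | zero => rw [pow_zero, pow_zero, lv_one]
  | succ i ih => rw [pow_succ, ih, lv_mul (pow_ne_zero _ ha) ha, pow_succ]

theorem lv_inv {a : F} (ha : a ≠ 0) : (lv J a)⁻¹ = lv J a⁻¹ :=
  inv_eq_of_mul_eq_one_right (by rw [lv_mul ha (inv_ne_zero ha), mul_inv_cancel₀ ha, lv_one])

variable (J) in
/-- An element of the root group with given coordinates. -/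
def U0 (g : M3 J) (c v : F) : Prop := ∃ h : c + J.σ c + v * J.σ v = 0, g = u0 c v h

/-- The centre of the root group. -/
abbrev Zc (g : M3 J) (c : F) : Prop := U0 J g c 0

theorem U0.rel {g : M3 J} {c v : F} (h : U0 J g c v) : c + J.σ c + v * J.σ v = 0 := h.1

theorem U0.congr {g : M3 J} {c v c' v' : F} (h : U0 J g c v) (ec : c = c') (ev : v = v') : U0 J g c' v' := by
  subst ec ev; exact h

theorem U0.of_rel {c v : F} (h : c + J.σ c + v * J.σ v = 0) : U0 J (u0 c v h) c v := ⟨h, rfl⟩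

theorem U0.unique {g g' : M3 J} {c v : F} (h : U0 J g c v) (h' : U0 J g' c v) : g = g' := by
  rw [h.2, h'.2]

theorem U0.mul {g g' : M3 J} {c v c' v' : F} (h : U0 J g c v) (h' : U0 J g' c' v') :
    U0 J (g * g') (c + c' - v * J.σ v') (v + v') := by
  obtain ⟨h, rfl⟩ := h
  obtain ⟨h', rfl⟩ := h'
  exact u0_mul h h'

theorem U0.inv {g : M3 J} {c v : F} (h : U0 J g c v) : U0 J g⁻¹ (J.σ c) (-v) := by
  obtain ⟨h, rfl⟩ := h
  exact u0_inv h

theorem U0.one : U0 J (1 : M3 J) 0 0 := by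
  refine ⟨by simp, (mat_inj ?_).symm⟩
  rw [mat_one, u0, mat_uM, Matrix.single_zero]
  convert (uMat_zero (σ := J.σ) (m := 1) (ε := 1)) using 2
  ext i e; simp [rowM]

theorem U0.comm {g g' : M3 J} {c v c' v' : F} (h : U0 J g c v) (h' : U0 J g' c' v') :
    U0 J ⁅g, g'⁆ (v' * J.σ v - v * J.σ v') 0 := by
  rw [commutatorElement_def]
  refine (((h.mul h').mul h.inv).mul h'.inv).congr ?_ (by ring)
  have h0 := h.rel
  have h1 := h'.rel
  simp only [map_neg]
  linear_combination h0 + h1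

theorem U0.coord {g : M3 J} {c v : F} (h : U0 J g c v) :
    mat g (Sum.inl (Sum.inl 0)) (Sum.inl (Sum.inr 0)) = c ∧ mat g (Sum.inl (Sum.inl 0)) (Sum.inr 0) = v := by
  obtain ⟨h, rfl⟩ := h
  simp [u0, uMat, rowM]

theorem U0.inj {g : M3 J} {c v c' v' : F} (h : U0 J g c v) (h' : U0 J g c' v') : c = c' ∧ v = v' :=
  ⟨h.coord.1.symm.trans h'.coord.1, h.coord.2.symm.trans h'.coord.2⟩

theorem U0.kf_eq {g : M3 J} {c v : F} (h : U0 J g c v) : kf g = 0 := by
  obtain ⟨h, rfl⟩ := h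
  exact kf_u0 h

theorem U0.lv_conj {g : M3 J} {c v a : F} (h : U0 J g c v) (ha : a ≠ 0) :
    U0 J (lv J a * g * (lv J a)⁻¹) (a * J.σ a * c) (a ^ 2 / J.σ a * v) := by
  obtain ⟨h, rfl⟩ := h
  have hsa : J.σ a ≠ 0 := by simpa using ha
  rw [lv_eq ha, u0, lM_uM, mul_inv_cancel_right]
  refine ⟨?_, uM_congr _ _ ?_ ?_⟩
  · rw [map_mul, map_mul, map_mul, map_div₀, map_pow, J.inv2]
    field_simp
    linear_combination (a * J.σ a) * h
  · ext i j
    rw [Subsingleton.elim i 0, Subsingleton.elim j 0]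
    simp [Matrix.mul_apply, g0, d0, st]
    ring
  · ext i e
    rw [Subsingleton.elim i 0, Subsingleton.elim e 0]
    simp [Matrix.mul_apply, g0, d0, rowM, map_div₀, J.inv2]
    field_simp

/-- An element of the root group meets the torus trivially. -/
theorem U0.eq_lv {g : M3 J} {c v a : F} (h : U0 J g c v) (ha : a ≠ 0) (e : g = lv J a) :
    c = 0 ∧ v = 0 ∧ a = 1 := by
  obtain ⟨h, rfl⟩ := h
  rw [lv_eq ha] at e
  have e' := congrArg mat e
  have h1 := congrFun (congrFun e' (Sum.inl (Sum.inl 0))) (Sum.inl (Sum.inr 0))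
  have h2 := congrFun (congrFun e' (Sum.inl (Sum.inl 0))) (Sum.inr 0)
  have h3 := congrFun (congrFun e' (Sum.inl (Sum.inl 0))) (Sum.inl (Sum.inl 0))
  simp [u0, uMat, lMat, rowM, g0, d0] at h1 h2 h3
  exact ⟨h1, h2, h3.symm⟩

/-- The parabolic subgroup. -/
theorem kf_zero_cases {g : M3 J} (hg : kf g = 0) :
    ∃ (n : M3 J) (c v a : F), U0 J n c v ∧ a ≠ 0 ∧ g = n * lv J a := by
  obtain ⟨C, μ, hC, H, X, hu, e⟩ := exists_par le_rfl hg
  obtain ⟨hc, el⟩ := lM_eq_lv hC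
  have hr : H 0 0 + J.σ (H 0 0) + X 0 0 * J.σ (X 0 0) = 0 := by
    have h := congrFun (congrFun hu 0) 0
    simpa [Matrix.mul_apply, st] using h
  refine ⟨_, H 0 0, X 0 0, C.1 0 0, U0.of_rel hr, hc, ?_⟩
  rw [e, el, u0]
  congr 1
  refine uM_congr _ _ ?_ ?_ <;> ext i j <;> rw [Subsingleton.elim i 0, Subsingleton.elim j 0] <;>
    simp [rowM]

theorem tM_lv {a : F} (ha : a ≠ 0) : tM J 1 (0 : Fin 1) * lv J a * (tM J 1 0)⁻¹ = lv J (J.σ a)⁻¹ := by
  have hsa : J.σ a ≠ 0 := by simpa using ha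
  have hne := J.η_ne
  rw [mul_inv_eq_iff_eq_mul, lv_eq ha, lv_eq (inv_ne_zero hsa)]
  refine mat_inj ?_
  rw [mat_mul, mat_mul, mat_tM, mat_lM, mat_lM]
  ext ((i | i) | i) ((j | j) | j) <;> rw [Subsingleton.elim i 0, Subsingleton.elim j 0] <;>
    simp [Matrix.mul_apply, Fintype.sum_sum_type, lMat, g0, d0, st, Matrix.one_apply, map_div₀, map_inv₀, J.inv2] <;>
    field_simp

theorem tM_sq : tM J 1 (0 : Fin 1) * tM J 1 0 = lv J (-1) := by
  rw [lv_eq (neg_ne_zero.2 one_ne_zero)]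
  refine mat_inj ?_
  rw [tM_mul_self_entries, mat_lM]
  have e : sg (F := F) (0 : Fin 1) = d0 (-1) := by
    ext i j; rw [Subsingleton.elim i 0, Subsingleton.elim j 0]; simp [sg, d0]
  rw [g0_coe, g0_inv_coe, e, inv_neg, inv_one, map_neg, map_one, div_self (neg_ne_zero.2 one_ne_zero)]

theorem kf_tM : kf (tM J 1 (0 : Fin 1)) ≠ 0 := by
  intro h
  have h' := congrFun (congrFun h 0) 0
  simp [kf, mat_tM, J.η_ne] at h'

/-- A root element is moved out of the parabolic subgroup by the reflection. -/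
theorem kf_conj_ne {g : M3 J} {c v a : F} (h : U0 J g c v) (ha : a ≠ 0)
    (hk : kf (tM J 1 0 * (g * lv J a) * (tM J 1 0)⁻¹) = 0) : c = 0 ∧ v = 0 := by
  obtain ⟨h, rfl⟩ := h
  rw [lv_eq ha, u0] at hk
  have hc : c = 0 := by simpa using (conj_cond _ _ hk).2
  subst hc
  simpa using h

end Cfsg.Lib.Linear.ShortPres.SUThree
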