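import Cfsg.Agent.Lib.Linear.ShortPres.SUThree.Params

/-!
# The root group of a presented cover
-/

set_option autoImplicit false
set_option linter.unusedSectionVars false

namespace Cfsg.Lib.Linear.ShortPres.SUThree

open Matrix Polynomial Cfsg.Lib.Linear.SUDegree Cfsg.Lib.Linear.Herm Cfsg.Lib.Linear.ShortPres.SUN
open scoped commutatorElement

theorem map_orb {G H : Type*} [Group G] [Group H] (f : G →* H) (u g : G) :
    (orb u g).map f = orb (f u) (f g) := by
  rw [orb, MonoidHom.map_closure, ← Set.range_comp, orb]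
  congr 2
  funext i
  exact map_cj f u g i

theorem cj_pow_base {G : Type*} [Group G] (u g : G) (k i : ℕ) : cj u (g ^ k) i = cj u g (k * i) := by
  simp [cj, pow_mul]

theorem cj_mul_period {G : Type*} [Group G] {u g : G} {N : ℕ} (hN : g ^ N = 1) (a b : ℕ) :
    cj u g (a + N * b) = cj u g a := by
  simp [cj, pow_add, pow_mul, hN]

variable {F : Type*} [Field F] [Fintype F] {J : Conj F} (Q : Pm J)

theorem orderOf_pos_gen : 0 < orderOf Q.ζ :=
  orderOf_pos_iff.2 (isOfFinOrder_iff_pow_eq_one.2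
    ⟨Fintype.card F - 1, by have := Fintype.one_lt_card (α := F); omega, FiniteField.pow_card_sub_one_eq_one _ Q.ζ_ne⟩)

variable (J) in
/-- The root group of the model. -/
def rootM : Subgroup (M3 J) where
  carrier := {g | ∃ c v, U0 J g c v}
  one_mem' := ⟨_, _, U0.one⟩
  mul_mem' := fun ⟨_, _, h⟩ ⟨_, _, h'⟩ => ⟨_, _, h.mul h'⟩
  inv_mem' := fun ⟨_, _, h⟩ => ⟨_, _, h.inv⟩

theorem orb_le_rootM : orb (xM Q) (hM Q) ≤ rootM J :=
  orb_le_of_closed ⟨_, _, U0_xM Q⟩ fun _ ⟨_, _, h⟩ => ⟨_, _, h.lv_conj Q.ζ_ne⟩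

variable {G : Type*} [Group G]

/-- The root element and the torus element. -/
structure XH (π : G →* M3 J) where
  hφ : J.σ (phi Q) ≠ phi Q
  x : G
  h : G
  πx : π x = xM Q
  πh : π h = hM Q
  hN : h ^ orderOf Q.ζ = 1

variable {Q} {π : G →* M3 J}

namespace XH

variable (D : XH Q π)

/-- The central element. -/
def z : G := ⁅D.x, D.h * D.x * D.h⁻¹⁆

/-- The central subgroup. -/
def Zs : Subgroup G := orb D.z D.h

/-- The root group. -/
def U : Subgroup G := orb D.x D.h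

theorem πz : π D.z = zM Q := by simp [z, zM, map_commutatorElement, D.πx, D.πh]

theorem h_inv : D.h⁻¹ = D.h ^ (orderOf Q.ζ - 1) :=
  inv_eq_of_mul_eq_one_right (by rw [← pow_succ', Nat.sub_add_cancel (orderOf_pos_gen Q), D.hN])

theorem h_norm (u : G) : D.h ∈ Subgroup.normalizer (orb u D.h : Set G) := by
  have hk : ∀ k : ℕ, ∀ y ∈ orb u D.h, D.h ^ k * y * (D.h ^ k)⁻¹ ∈ orb u D.h := fun k y hy =>
    orb_closed ((Commute.refl D.h).pow_left k) (cj_mem u D.h k) hy
  refine Subgroup.mem_normalizer_iff.2 fun y => ⟨fun hy => by simpa using hk 1 y hy, fun hy => ?_⟩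
  have := hk (orderOf Q.ζ - 1) _ hy
  rw [← D.h_inv] at this
  simpa [mul_assoc] using this

theorem z_mem : D.z ∈ D.U := by
  have h1 : D.x ∈ D.U := self_mem _ _
  have h2 : D.h * D.x * D.h⁻¹ ∈ D.U := by
    show _ ∈ orb D.x D.h
    simpa [cj] using cj_mem D.x D.h 1
  rw [z, commutatorElement_def]
  exact mul_mem (mul_mem (mul_mem h1 h2) (inv_mem h1)) (inv_mem h2)

theorem Zs_le : D.Zs ≤ D.U :=
  orb_le_of_closed D.z_mem fun y hy => (Subgroup.mem_normalizer_iff.1 (D.h_norm D.x) y).1 hy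

theorem img_U {u : G} (hu : u ∈ D.U) : ∃ c v, U0 J (π u) c v := by
  have h := Subgroup.mem_map_of_mem π hu
  rw [U, map_orb, D.πx, D.πh] at h
  exact orb_le_rootM Q h

theorem surj_U {c v : F} (h : c + J.σ c + v * J.σ v = 0) : ∃ u ∈ D.U, U0 J (π u) c v := by
  obtain ⟨g, hg, e⟩ := surj_orb D.hφ h
  rw [← D.πx, ← D.πh, ← map_orb π] at hg
  obtain ⟨u, hu, rfl⟩ := hg
  exact ⟨u, hu, e⟩

theorem surj_Z {d : F} (hd : J.σ d = -d) : ∃ u ∈ D.Zs, Zc (π u) d := by
  obtain ⟨g, hg, e⟩ := surj_orbZ D.hφ hd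
  rw [← D.πz, ← D.πh, ← map_orb π] at hg
  obtain ⟨u, hu, rfl⟩ := hg
  exact ⟨u, hu, e⟩

theorem π_cjz (i : ℕ) : Zc (π (cj D.z D.h i)) (n0 Q ^ i * dz Q) := by
  rw [map_cj, D.πz, D.πh]
  exact Zc_cj_zM Q i

end XH

variable (p e : ℕ)

/-- The relations of the central subgroup. -/
structure ZD (Q : Pm J) (p e : ℕ) (π : G →* M3 J) extends XH Q π where
  hp : 0 < p
  he : 0 < e
  card : p ^ e ≤ Nat.card (Fix J)
  zp : toXH.z ^ p = 1
  zz : ∀ i, Commute toXH.z (cj toXH.z h i)
  zrec : cj toXH.z h e ∈ Subgroup.closure (cj toXH.z h '' Set.Iio e)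

variable {p e}

namespace ZD

variable (D : ZD Q p e π)

theorem Zs_comm {a b : G} (ha : a ∈ D.Zs) (hb : b ∈ D.Zs) : Commute a b := orb_comm D.zz ha hb

theorem Zs_exists : ∀ u ∈ D.Zs, ∃ d, Zc (π u) d ∧ (π u = 1 → u = 1) := by
  classical
  obtain ⟨hfin, hle⟩ := orb_card D.hp D.he D.zp D.zz ∅ (by simp) (by simpa using D.zrec)
  haveI := hfin
  have hle' : Nat.card (orb D.z D.h) ≤ Nat.card (Fix J) := hle.trans (by simpa using D.card)
  have key : ∀ a : Fix J, ∃ u ∈ D.Zs, Zc (π u) (a.1 * dz Q) ∧ (a.1 = 0 → u = 1) := by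
    intro a
    rcases eq_or_ne a.1 0 with ha | ha
    · exact ⟨1, one_mem _, by rw [map_one, ha, zero_mul]; exact U0.one, fun _ => rfl⟩
    · obtain ⟨u, hu, e⟩ := D.surj_Z (d := a.1 * dz Q) (by rw [map_mul, a.2, dz_skew, mul_neg])
      exact ⟨u, hu, e, fun h => absurd h ha⟩
  choose w hw hwU hw0 using key
  let W : Fix J → orb D.z D.h := fun a => ⟨w a, hw a⟩
  have hW : Function.Bijective W := by
    refine Function.Injective.bijective_of_nat_card_le (fun a b hab => Subtype.ext ?_) hle'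
    have e' := congrArg Subtype.val hab
    exact mul_right_cancel₀ (dz_ne D.hφ) ((hwU a).inj ((congrArg π e').symm ▸ hwU b)).1
  intro u hu
  obtain ⟨a, ha⟩ := hW.2 ⟨u, hu⟩
  have ea : w a = u := congrArg Subtype.val ha
  subst ea
  refine ⟨_, hwU a, fun h1 => hw0 a ?_⟩
  have := ((hwU a).inj (h1 ▸ U0.one)).1
  exact (mul_eq_zero.1 this).resolve_right (dz_ne D.hφ)

theorem eqZ {a b : G} (ha : a ∈ D.Zs) (hb : b ∈ D.Zs) {d : F} (ea : Zc (π a) d) (eb : Zc (π b) d) : a = b := by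
  obtain ⟨_, -, h1⟩ := D.Zs_exists _ (mul_mem ha (inv_mem hb))
  exact mul_inv_eq_one.1 (h1 (by rw [map_mul, map_inv, ea.unique eb, mul_inv_cancel]))

/-- The root element commutes with the central subgroup. -/
theorem xz_of {l m : ℕ} {w : G} (hl : Q.ζ ^ l = n0 Q + 1) (hm : Q.ζ ^ m = n0 Q)
    (hs : ∀ i < 4, Commute D.x (cj D.z D.h i)) (hw : w ∈ D.Zs)
    (hg : cj D.x D.h l = cj D.x D.h m * D.x * w) : ∀ i, Commute D.x (cj D.z D.h i) := by
  have hshift : ∀ j, cj D.z D.h (m + j) = cj D.z D.h (j + 2) := fun j =>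
    D.eqZ (cj_mem _ _ _) (cj_mem _ _ _) (D.π_cjz _) ((D.π_cjz _).congr (by
      rw [pow_add, pow_add, show n0 Q ^ m = n0 Q ^ 2 by
        rw [show n0 Q ^ m = (Q.ζ * J.σ Q.ζ) ^ m from rfl, mul_pow, ← map_pow, hm, n0_fix, pow_two]]
      ring) rfl)
  have hexp : ∀ n, cj D.z D.h (l + n) =
      cj D.z D.h (n + 2) * (cj D.z D.h (n + 1) * cj D.z D.h (n + 1)) * cj D.z D.h n := fun n =>
    D.eqZ (cj_mem _ _ _) (mul_mem (mul_mem (cj_mem _ _ _) (mul_mem (cj_mem _ _ _) (cj_mem _ _ _))) (cj_mem _ _ _))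
      (D.π_cjz _) (by
        simp only [map_mul]
        refine ((((D.π_cjz _).mul ((D.π_cjz _).mul (D.π_cjz _)))).mul (D.π_cjz _)).congr ?_ (by simp)
        rw [pow_add _ l, show n0 Q ^ l = (Q.ζ * J.σ Q.ζ) ^ l from rfl, mul_pow, ← map_pow, hl]
        simp only [map_zero, map_add, map_one, n0_fix, mul_zero, sub_zero, add_zero]
        ring)
  intro i
  induction i using Nat.strong_induction_on with
  | _ i ih =>
    rcases Nat.lt_or_ge i 4 with h4 | h4
    · exact hs i h4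
    obtain ⟨n, rfl⟩ : ∃ n, i = n + 2 := ⟨i - 2, by omega⟩
    have hH : ∀ j ≤ n, Commute (cj D.x D.h m) (cj D.z D.h (j + 2)) := fun j hj => by
      rw [← hshift]
      have := (ih j (by omega)).map (MulAut.conj (D.h ^ m)).toMonoidHom
      simp only [MulEquiv.coe_toMonoidHom, MulAut.conj_apply] at this
      rw [← cj_add] at this
      exact this
    set B := cj D.z D.h (n + 2) * (cj D.z D.h (n + 1) * cj D.z D.h (n + 1)) * cj D.z D.h n with hB
    have hB' : B ∈ D.Zs :=
      mul_mem (mul_mem (cj_mem _ _ _) (mul_mem (cj_mem _ _ _) (cj_mem _ _ _))) (cj_mem _ _ _)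
    have hA : Commute (cj D.x D.h m * D.x * w) B := by
      rw [← hg, hB, ← hexp]
      have := (ih n (by omega)).map (MulAut.conj (D.h ^ l)).toMonoidHom
      simp only [MulEquiv.coe_toMonoidHom, MulAut.conj_apply] at this
      rw [← cj_add] at this
      exact this
    have hHB : Commute (cj D.x D.h m) B := by
      have e1 : n + 1 = (n - 1) + 2 := by omega
      have e0 : n = (n - 2) + 2 := by omega
      have c1 : Commute (cj D.x D.h m) (cj D.z D.h (n + 1)) := by rw [e1]; exact hH _ (by omega)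
      have c0 : Commute (cj D.x D.h m) (cj D.z D.h n) := by rw [e0]; exact hH _ (by omega)
      exact ((hH n le_rfl).mul_right (c1.mul_right c1)).mul_right c0
    have hxB : Commute D.x B := by
      have := (hHB.inv_left.mul_left hA).mul_left (D.Zs_comm hw hB').inv_left
      simpa [mul_assoc] using this
    have c1 := ih (n + 1) (by omega)
    have c0 := ih n (by omega)
    have := (hxB.mul_right c0.inv_right).mul_right ((c1.mul_right c1).inv_right)
    rwa [hB, mul_inv_cancel_right, mul_inv_cancel_right] at this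

theorem xz_of_one (he1 : e = 1) (h0 : Commute D.x D.z) (i : ℕ) : Commute D.x (cj D.z D.h i) := by
  have hle := orb_eq_first (u := D.z) (g := D.h) Nat.one_pos ∅ (by simp) (by simpa [he1] using D.zrec)
  have hc : Subgroup.closure (∅ ∪ cj D.z D.h '' Set.Iio 1) ≤ Subgroup.centralizer ({D.x} : Set G) := by
    rw [Subgroup.closure_le]
    rintro y (hy | ⟨j, hj, rfl⟩)
    · exact hy.elim
    · obtain rfl : j = 0 := by simpa using hj
      rw [SetLike.mem_coe, Subgroup.mem_centralizer_singleton_iff, cj_zero]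
      exact h0.eq.symm
  exact (Subgroup.mem_centralizer_singleton_iff.1 (hc (hle (cj_mem _ _ i)))).symm

end ZD

/-- The central subgroup is central in the root group. -/
structure XZ (Q : Pm J) (p e : ℕ) (π : G →* M3 J) extends ZD Q p e π where
  m : ℕ
  hm : Q.ζ ^ m = n0 Q
  xz : ∀ i, Commute x (cj toZD.z h i)

namespace XZ

variable (D : XZ Q p e π)

theorem U_comm_Zs {u w : G} (hu : u ∈ D.U) (hw : w ∈ D.Zs) : Commute u w := by
  have hle : D.U ≤ Subgroup.centralizer (D.Zs : Set G) := by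
    refine orb_le_of_closed ?_ fun y hy => ?_
    · rw [Subgroup.mem_centralizer_iff]
      intro b hb
      have : D.Zs ≤ Subgroup.centralizer ({D.x} : Set G) := by
        rw [XH.Zs, orb, Subgroup.closure_le]
        rintro _ ⟨i, rfl⟩
        exact Subgroup.mem_centralizer_singleton_iff.2 (D.xz i).eq.symm
      exact Subgroup.mem_centralizer_singleton_iff.1 (this hb)
    · rw [Subgroup.mem_centralizer_iff] at hy ⊢
      intro b hb
      have hb' : D.h⁻¹ * b * D.h ∈ D.Zs := by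
        have := (Subgroup.mem_normalizer_iff.1 (D.h_norm D.z) (D.h⁻¹ * b * D.h)).2
          (by simpa [mul_assoc, XH.Zs] using hb)
        exact this
      have := hy _ hb'
      calc b * (D.h * y * D.h⁻¹) = D.h * ((D.h⁻¹ * b * D.h) * y) * D.h⁻¹ := by group
        _ = _ := by rw [this]; group
  exact ((Subgroup.mem_centralizer_iff.1 (hle hu)) w hw).symm

/-- The group in which we reduce. -/
abbrev Nz : Subgroup G := Subgroup.normalizer (D.Zs : Set G)

/-- The reduction. -/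
abbrev Qt : Type _ := D.Nz ⧸ D.Zs.subgroupOf D.Nz

theorem x_norm : D.x ∈ D.Nz := by
  refine Subgroup.mem_normalizer_iff.2 fun y => ⟨fun hy => ?_, fun hy => ?_⟩
  · rwa [(D.U_comm_Zs (self_mem _ _) hy).eq, mul_inv_cancel_right]
  · have h := D.U_comm_Zs (u := D.x⁻¹) (inv_mem (self_mem _ _)) hy
    have e : y = D.x⁻¹ * (D.x * y * D.x⁻¹) * D.x := by group
    rw [e, h.eq, inv_mul_cancel_right]
    exact hy

/-- The lifted element. -/
def x₁ : D.Nz := ⟨D.x, D.x_norm⟩
/-- The lifted element. -/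
def h₁ : D.Nz := ⟨D.h, D.h_norm D.z⟩

/-- The projection. -/
def q : D.Nz →* D.Qt := QuotientGroup.mk' _

theorem q_one {a : D.Nz} : D.q a = 1 ↔ (a : G) ∈ D.Zs := by
  rw [q, QuotientGroup.mk'_apply, QuotientGroup.eq_one_iff, Subgroup.mem_subgroupOf]

/-- The image of the root element. -/
def qx : D.Qt := D.q D.x₁
/-- The image of the torus element. -/
def qh : D.Qt := D.q D.h₁
/-- The image of the squared torus element. -/
def qH : D.Qt := D.qh ^ D.m
/-- The image of the second root element. -/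
def qy : D.Qt := D.qh * D.qx * D.qh⁻¹

theorem qh_pow : D.qh ^ orderOf Q.ζ = 1 := by
  rw [qh, ← map_pow, q_one]
  show D.h ^ orderOf Q.ζ ∈ D.Zs
  rw [D.hN]; exact one_mem _

theorem qcomm_x {i : ℕ} (h : ⁅D.x, cj D.x (D.h ^ D.m) i⁆ ∈ D.Zs) : Commute D.qx (cj D.qx D.qH i) := by
  rw [qH, qh, ← map_pow, qx, ← map_cj, ← commutatorElement_eq_one_iff_commute, ← map_commutatorElement, q_one]
  exact h

theorem qcomm_y {i : ℕ} (h : ⁅D.x, cj (D.h * D.x * D.h⁻¹) (D.h ^ D.m) i⁆ ∈ D.Zs) :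
    Commute D.qx (cj D.qy D.qH i) := by
  rw [qH, qy, qx, qh, ← map_pow, ← map_inv, ← map_mul, ← map_mul, ← map_cj,
    ← commutatorElement_eq_one_iff_commute, ← map_commutatorElement, q_one]
  exact h

theorem qrel {l : ℕ} {w : G} (hw : w ∈ D.Zs) (hg : cj D.x D.h l = cj D.x D.h D.m * D.x * w) :
    D.qh ^ l * D.qx * (D.qh ^ l)⁻¹ = cj D.qx D.qH 1 * D.qx := by
  rw [qH, cj_pow_base, mul_one, qh, qx]
  show cj (D.q D.x₁) (D.q D.h₁) l = cj (D.q D.x₁) (D.q D.h₁) D.m * D.q D.x₁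
  rw [← map_cj, ← map_cj, ← map_mul, ← inv_mul_eq_one, ← map_inv, ← map_mul, q_one]
  show (cj D.x D.h l)⁻¹ * (cj D.x D.h D.m * D.x) ∈ D.Zs
  rw [hg, _root_.mul_inv_rev, inv_mul_cancel_right]
  exact inv_mem hw

theorem qxx_of {l : ℕ} {w : G} (hw : w ∈ D.Zs) (hg : cj D.x D.h l = cj D.x D.h D.m * D.x * w)
    (h1 : ⁅D.x, cj D.x (D.h ^ D.m) 1⁆ ∈ D.Zs) : ∀ i, Commute D.qx (cj D.qx D.qH i) :=
  commute_cj ((Commute.refl D.qh).pow_pow D.m l) (D.qcomm_x h1) (D.qrel hw hg)

theorem qxy_zero : Commute D.qx (cj D.qy D.qH 0) :=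
  D.qcomm_y (by rw [cj_zero]; exact self_mem _ _)

theorem qxy_of {l : ℕ} {w : G} (hw : w ∈ D.Zs) (hg : cj D.x D.h l = cj D.x D.h D.m * D.x * w)
    (h1 : ⁅D.x, cj (D.h * D.x * D.h⁻¹) (D.h ^ D.m) 1⁆ ∈ D.Zs) : ∀ i, Commute D.qx (cj D.qy D.qH i) := by
  have hrel := D.qrel hw hg
  intro i
  induction i using Nat.strong_induction_on with
  | _ i ih =>
    match i, ih with
    | 0, _ => exact D.qxy_zero
    | 1, _ => exact D.qcomm_y h1
    | n + 2, ih =>
      have hc : Commute (D.qh ^ l) (D.qh * 1) := by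
        rw [mul_one]; exact (Commute.refl D.qh).pow_left l
      have hcH : Commute (D.qh ^ l) D.qH := (Commute.refl D.qh).pow_pow l D.m
      have hy : D.qh ^ l * D.qy * (D.qh ^ l)⁻¹ = cj D.qy D.qH 1 * D.qy := by
        calc D.qh ^ l * D.qy * (D.qh ^ l)⁻¹ = D.qh * (D.qh ^ l * D.qx * (D.qh ^ l)⁻¹) * D.qh⁻¹ := by
              rw [qy]; group
          _ = _ := by
              rw [hrel, qy]
              have : D.qh * cj D.qx D.qH 1 * D.qh⁻¹ = cj (D.qh * D.qx * D.qh⁻¹) D.qH 1 := by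
                simp only [cj, pow_one, qH]; group
              rw [← this]; group
      have hconj : ∀ j, D.qh ^ l * cj D.qy D.qH j * (D.qh ^ l)⁻¹ = cj D.qy D.qH (j + 1) * cj D.qy D.qH j := by
        intro j
        have hp := hcH.pow_right j
        calc D.qh ^ l * cj D.qy D.qH j * (D.qh ^ l)⁻¹
            = (D.qh ^ l * D.qH ^ j) * D.qy * ((D.qH ^ j)⁻¹ * (D.qh ^ l)⁻¹) := by simp [cj, mul_assoc]
          _ = D.qH ^ j * (D.qh ^ l * D.qy * (D.qh ^ l)⁻¹) * (D.qH ^ j)⁻¹ := by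
              rw [← _root_.mul_inv_rev, hp.eq, _root_.mul_inv_rev]; simp [mul_assoc]
          _ = _ := by rw [hy, cj_add]; simp [cj, mul_assoc]
      have hA : Commute (cj D.qx D.qH 1 * D.qx) (cj D.qy D.qH (n + 2) * cj D.qy D.qH (n + 1)) := by
        have := (ih (n + 1) (by omega)).map (MulAut.conj (D.qh ^ l)).toMonoidHom
        simp only [MulEquiv.coe_toMonoidHom, MulAut.conj_apply] at this
        rwa [hrel, hconj] at this
      have hsh : ∀ j, Commute D.qx (cj D.qy D.qH j) → Commute (cj D.qx D.qH 1) (cj D.qy D.qH (1 + j)) := fun j hj => by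
        have := hj.map (MulAut.conj (D.qH ^ 1)).toMonoidHom
        simp only [MulEquiv.coe_toMonoidHom, MulAut.conj_apply] at this
        rwa [← cj_add] at this
      have h12 : Commute (cj D.qx D.qH 1) (cj D.qy D.qH (n + 2)) := by
        rw [show n + 2 = 1 + (n + 1) by omega]; exact hsh _ (ih _ (by omega))
      have h11 : Commute (cj D.qx D.qH 1) (cj D.qy D.qH (n + 1)) := by
        rw [show n + 1 = 1 + n by omega]; exact hsh _ (ih _ (by omega))
      have hxp : Commute D.qx (cj D.qy D.qH (n + 2) * cj D.qy D.qH (n + 1)) := by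
        have := (h12.mul_right h11).inv_left.mul_left hA
        simpa using this
      simpa using hxp.mul_right (ih (n + 1) (by omega)).inv_right

end XZ

end Cfsg.Lib.Linear.ShortPres.SUThree
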