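import Cfsg.Agent.Lib.Linear.ShortPres.SUThree.Model

/-!
# Field parameters and generation of the root group
-/

set_option autoImplicit false
set_option linter.unusedSectionVars false

namespace Cfsg.Lib.Linear.ShortPres.SUThree

open Matrix Polynomial Cfsg.Lib.Linear.SUDegree Cfsg.Lib.Linear.Herm Cfsg.Lib.Linear.ShortPres.SUN
open Cfsg.Lib.Linear.ShortPres.SUN.ParData (u0)
open scoped commutatorElement

variable {F : Type*} [Field F] [Fintype F] {J : Conj F} (Q : Pm J)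

/-- The norm of the primitive element. -/
def n0 : F := Q.ζ * J.σ Q.ζ

/-- The multiplier on the second coordinate. -/
def phi : F := Q.ζ ^ 2 / J.σ Q.ζ

/-- The coordinate of the central root element. -/
def dz : F := phi Q - J.σ (phi Q)

theorem sζ_ne : J.σ Q.ζ ≠ 0 := by simpa using Q.ζ_ne

theorem n0_ne : n0 Q ≠ 0 := mul_ne_zero Q.ζ_ne (sζ_ne Q)

theorem n0_fix : J.σ (n0 Q) = n0 Q := by rw [n0, map_mul, J.inv2, mul_comm]

theorem phi_ne : phi Q ≠ 0 := div_ne_zero (pow_ne_zero _ Q.ζ_ne) (sζ_ne Q)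

theorem dz_skew : J.σ (dz Q) = -dz Q := by rw [dz, map_sub, J.inv2, neg_sub]

theorem n0_act : n0 Q * J.σ (n0 Q) = n0 Q ^ 2 ∧ n0 Q ^ 2 / J.σ (n0 Q) = n0 Q := by
  have := n0_ne Q
  rw [n0_fix]
  exact ⟨(pow_two _).symm, by field_simp⟩

theorem fix_pow {a : F} (ha : J.σ a = a) (h0 : a ≠ 0) : ∃ i : ℕ, n0 Q ^ i = a := by
  obtain ⟨b, hb⟩ := Q.norm a ha
  have hb0 : b ≠ 0 := fun e => h0 (by rw [← hb, e, mul_zero])
  obtain ⟨i, hi⟩ := Q.gen b hb0
  exact ⟨i, by rw [n0, mul_pow, ← map_pow, hi, mul_comm, hb]⟩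

section Basis

variable {Q} (hφ : J.σ (phi Q) ≠ phi Q)
include hφ

theorem dz_ne : dz Q ≠ 0 := sub_ne_zero.2 (Ne.symm hφ)

theorem decomp (v : F) : ∃ a b : F, J.σ a = a ∧ J.σ b = b ∧ v = a + b * phi Q := by
  have hd : phi Q - J.σ (phi Q) ≠ 0 := sub_ne_zero.2 (Ne.symm hφ)
  obtain ⟨b, hb⟩ : ∃ b, b = (v - J.σ v) / (phi Q - J.σ (phi Q)) := ⟨_, rfl⟩
  have hbf : J.σ b = b := by
    rw [hb, map_div₀, map_sub, map_sub, J.inv2, J.inv2, ← neg_sub v, ← neg_sub (phi Q), neg_div_neg_eq]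
  refine ⟨v - b * phi Q, b, ?_, hbf, by ring⟩
  have hbd : b * (phi Q - J.σ (phi Q)) = v - J.σ v := by rw [hb, div_mul_cancel₀ _ hd]
  rw [map_sub, map_mul, hbf]
  linear_combination hbd

theorem indep {a b : F} (ha : J.σ a = a) (hb : J.σ b = b) (h : a + b * phi Q = 0) : a = 0 ∧ b = 0 := by
  have h' := congrArg J.σ h
  rw [map_add, map_mul, ha, hb, map_zero] at h'
  have hb0 : b = 0 := by
    have : b * (phi Q - J.σ (phi Q)) = 0 := by linear_combination h - h'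
    exact (mul_eq_zero.1 this).resolve_right (sub_ne_zero.2 (Ne.symm hφ))
  subst hb0
  exact ⟨by simpa using h, rfl⟩

end Basis

variable (J) in
/-- The fixed field as a set. -/
abbrev Fix : Type _ := {a : F // J.σ a = a}

section Poly

variable (p : ℕ) [Fact p.Prime] [CharP F p]

theorem exists_poly :
    ∃ (e : ℕ) (P : (ZMod p)[X]), 0 < e ∧ P.natDegree < e ∧ p ^ e ≤ Nat.card (Fix J) ∧
      (letI := ZMod.algebra F p; aeval (n0 Q) P) = n0 Q ^ e ∧ (n0 Q = -1 → e = 1) := by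
  letI := ZMod.algebra F p
  have hint : IsIntegral (ZMod p) (n0 Q) := IsIntegral.of_finite _ _
  set m := minpoly (ZMod p) (n0 Q) with hm'
  have hm : m.Monic := minpoly.monic hint
  have hn : 0 < m.natDegree := minpoly.natDegree_pos hint
  refine ⟨m.natDegree, -m.eraseLead, hn, ?_, ?_, ?_, ?_⟩
  · rw [natDegree_neg]
    exact lt_of_le_of_lt (eraseLead_natDegree_le m) (by omega)
  · have hli := linearIndependent_pow (K := ZMod p) (n0 Q)
    have hfix : ∀ a : Fin m.natDegree → ZMod p, J.σ (∑ i, a i • n0 Q ^ (i : ℕ)) = ∑ i, a i • n0 Q ^ (i : ℕ) := by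
      intro a
      rw [map_sum]
      refine Finset.sum_congr rfl fun i _ => ?_
      rw [Algebra.smul_def, map_mul, map_pow, n0_fix,
        ← RingHom.comp_apply J.σ, RingHom.ext_zmod (J.σ.comp (algebraMap (ZMod p) F)) (algebraMap (ZMod p) F)]
    have hinj : Function.Injective fun a : Fin m.natDegree → ZMod p => (⟨_, hfix a⟩ : Fix J) := by
      intro a b h
      have h' := congrArg Subtype.val h
      funext i
      refine sub_eq_zero.1 (Fintype.linearIndependent_iff.1 hli (fun i => a i - b i) ?_ i)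
      simp only [sub_smul, Finset.sum_sub_distrib]
      exact sub_eq_zero.2 h'
    have := Nat.card_le_card_of_injective _ hinj
    rwa [Nat.card_fun, Nat.card_fin, Nat.card_zmod] at this
  · have h0 : aeval (n0 Q) (m.eraseLead + C m.leadingCoeff * X ^ m.natDegree) = 0 := by
      rw [eraseLead_add_C_mul_X_pow]; exact minpoly.aeval _ _
    rw [hm.leadingCoeff, map_one, one_mul, map_add, map_pow, aeval_X] at h0
    rw [map_neg]
    linear_combination -h0
  · intro h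
    rw [hm', h, show (-1 : F) = algebraMap (ZMod p) F (-1) by simp, minpoly.eq_X_sub_C, natDegree_X_sub_C]

end Poly

/-! ## Generation of the root group -/

/-- The model root element. -/
def xM : M3 J := u0 Q.κ 1 (by rw [map_one, mul_one]; exact Q.hκ)

/-- The model torus element. -/
noncomputable def hM : M3 J := lv J Q.ζ

theorem U0_xM : U0 J (xM Q) Q.κ 1 := U0.of_rel _

theorem U0.cj {g : M3 J} {c v a : F} (h : U0 J g c v) (ha : a ≠ 0) (i : ℕ) :
    U0 J (ShortPres.cj g (lv J a) i) ((a * J.σ a) ^ i * c) ((a ^ 2 / J.σ a) ^ i * v) := by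
  rw [ShortPres.cj, lv_pow ha]
  refine (h.lv_conj (pow_ne_zero i ha)).congr ?_ ?_
  · rw [map_pow, mul_pow]
  · rw [map_pow, div_pow, ← pow_mul, mul_comm i 2, pow_mul]

theorem U0_cj_xM (i : ℕ) : U0 J (ShortPres.cj (xM Q) (hM Q) i) (n0 Q ^ i * Q.κ) (phi Q ^ i) :=
  ((U0_xM Q).cj Q.ζ_ne i).congr rfl (mul_one _)

/-- The model central root element. -/
noncomputable def zM : M3 J := ⁅xM Q, hM Q * xM Q * (hM Q)⁻¹⁆

theorem U0_x'M : U0 J (hM Q * xM Q * (hM Q)⁻¹) (n0 Q * Q.κ) (phi Q) :=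
  ((U0_xM Q).lv_conj Q.ζ_ne).congr rfl (mul_one _)

theorem Zc_zM : Zc (zM Q) (dz Q) :=
  ((U0_xM Q).comm (U0_x'M Q)).congr (by simp [dz]) rfl

theorem Zc_cj_zM (i : ℕ) : Zc (ShortPres.cj (zM Q) (hM Q) i) (n0 Q ^ i * dz Q) :=
  ((Zc_zM Q).cj Q.ζ_ne i).congr rfl (mul_zero _)

theorem zM_mem : zM Q ∈ orb (xM Q) (hM Q) := by
  rw [zM, commutatorElement_def]
  have h1 := self_mem (xM Q) (hM Q)
  have h2 : hM Q * xM Q * (hM Q)⁻¹ ∈ orb (xM Q) (hM Q) := by simpa [ShortPres.cj] using cj_mem (xM Q) (hM Q) 1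
  exact mul_mem (mul_mem (mul_mem h1 h2) (inv_mem h1)) (inv_mem h2)

theorem orbZ_le : orb (zM Q) (hM Q) ≤ orb (xM Q) (hM Q) :=
  orb_le_of_closed (zM_mem Q) fun y hy => orb_closed (Commute.refl _)
    (by simpa [ShortPres.cj] using cj_mem (xM Q) (hM Q) 1) hy

variable {Q} (hφ : J.σ (phi Q) ≠ phi Q)
include hφ

theorem surj_orbZ {d : F} (hd : J.σ d = -d) : ∃ g ∈ orb (zM Q) (hM Q), Zc g d := by
  rcases eq_or_ne d 0 with rfl | h0
  · exact ⟨1, one_mem _, U0.one⟩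
  have hne := dz_ne hφ
  obtain ⟨i, hi⟩ := fix_pow Q (a := d / dz Q) (by rw [map_div₀, hd, dz_skew, neg_div_neg_eq]) (div_ne_zero h0 hne)
  exact ⟨_, cj_mem _ _ i, (Zc_cj_zM Q i).congr (by rw [hi, div_mul_cancel₀ _ hne]) rfl⟩

theorem surj_orb {c v : F} (h : c + J.σ c + v * J.σ v = 0) : ∃ g ∈ orb (xM Q) (hM Q), U0 J g c v := by
  obtain ⟨a, b, ha, hb, hv⟩ := decomp hφ v
  obtain ⟨m, hm⟩ := Q.gen _ (n0_ne Q)
  have key : ∀ (a : F) (k : ℕ), J.σ a = a →
      ∃ g ∈ orb (xM Q) (hM Q), ∃ c', U0 J g c' (a * phi Q ^ k) := by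
    intro a k ha
    rcases eq_or_ne a 0 with rfl | ha0
    · exact ⟨1, one_mem _, 0, U0.one.congr rfl (zero_mul _).symm⟩
    obtain ⟨i, hi⟩ := fix_pow Q ha ha0
    refine ⟨_, cj_mem _ _ (m * i + k), _, (U0_cj_xM Q (m * i + k)).congr rfl ?_⟩
    rw [pow_add, pow_mul]
    congr 1
    rw [← hi]
    congr 1
    have h1 := (n0_act Q).2
    rw [← hm, map_pow] at h1
    rw [← hm]
    refine Eq.trans ?_ h1
    rw [phi, div_pow, ← pow_mul, ← pow_mul, mul_comm 2 m]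
  obtain ⟨g₁, hg₁, c₁, e₁⟩ := key a 0 ha
  obtain ⟨g₂, hg₂, c₂, e₂⟩ := key b 1 hb
  have e := (e₁.mul e₂).congr rfl (show a * phi Q ^ 0 + b * phi Q ^ 1 = v by rw [hv]; ring)
  set c₃ := c₁ + c₂ - a * phi Q ^ 0 * J.σ (b * phi Q ^ 1) with hc₃
  have hr := e.rel
  obtain ⟨g₃, hg₃, e₃⟩ := surj_orbZ hφ (d := c - c₃) (by rw [map_sub]; linear_combination h - hr)
  exact ⟨g₁ * g₂ * g₃, mul_mem (mul_mem hg₁ hg₂) (orbZ_le Q hg₃),
    (e.mul e₃).congr (by simp) (add_zero v)⟩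

/-- The three elements generate. -/
theorem closure_top : Subgroup.closure ({xM Q, hM Q, tM J 1 (0 : Fin 1)} : Set (M3 J)) = ⊤ := by
  set W := Subgroup.closure ({xM Q, hM Q, tM J 1 (0 : Fin 1)} : Set (M3 J)) with hW
  have hx : xM Q ∈ W := Subgroup.subset_closure (by simp)
  have hh : hM Q ∈ W := Subgroup.subset_closure (by simp)
  have ht : tM J 1 (0 : Fin 1) ∈ W := Subgroup.subset_closure (by simp)
  have hU : orb (xM Q) (hM Q) ≤ W := orb_le_of_closed hx fun y hy => mul_mem (mul_mem hh hy) (inv_mem hh)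
  have hu : ∀ {c v : F} (h : c + J.σ c + v * J.σ v = 0), u0 c v h ∈ W := fun h => by
    obtain ⟨g, hg, e⟩ := surj_orb hφ h
    rw [← e.unique (U0.of_rel h)]; exact hU hg
  have hP : ∀ g : M3 J, kf g = 0 → g ∈ W := fun g hg => by
    obtain ⟨n, c, v, a, ⟨hr, rfl⟩, ha, rfl⟩ := kf_zero_cases hg
    obtain ⟨i, hi⟩ := Q.gen a ha
    rw [← hi, ← lv_pow Q.ζ_ne]
    exact mul_mem (hu hr) (pow_mem hh i)
  refine eq_top_iff.2 fun g _ => ?_
  by_cases hg : kf g = 0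
  · exact hP g hg
  set f := mat g (Sum.inl (Sum.inr 0)) (Sum.inl (Sum.inl 0)) with hf
  set a := mat g (Sum.inl (Sum.inl 0)) (Sum.inl (Sum.inl 0)) with ha
  set w := mat g (Sum.inr 0) (Sum.inl (Sum.inl 0)) with hw
  have hf0 : f ≠ 0 := fun e => hg (Matrix.ext fun i j => by
    rw [Subsingleton.elim i 0, Subsingleton.elim j 0]; exact e)
  have hsf : J.σ f ≠ 0 := by simpa using hf0
  have hiso : J.σ a * f + J.σ f * a + J.σ w * w = 0 := by
    have h := form_entries g (Sum.inl (Sum.inl 0)) (Sum.inl (Sum.inl 0))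
    simpa [Cfsg.Lib.Linear.SUDegree.gram] using h
  obtain ⟨v, hv⟩ : ∃ v, v = J.σ w / J.σ f := ⟨_, rfl⟩
  obtain ⟨c, hc⟩ : ∃ c, c = -(a + v * w) / f := ⟨_, rfl⟩
  have hr : c + J.σ c + v * J.σ v = 0 := by
    subst hc hv
    simp only [map_div₀, map_neg, map_add, map_mul, J.inv2]
    field_simp
    linear_combination (-1 : F) * hiso
  have he : kf (tM J 1 0 * (u0 c v hr * g)) = 0 := by
    ext i j
    rw [Subsingleton.elim i 0, Subsingleton.elim j 0]
    show mat (tM J 1 0 * (u0 c v hr * g)) (Sum.inl (Sum.inr 0)) (Sum.inl (Sum.inl 0)) = 0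
    rw [tM_col, if_pos rfl, u0, mul_uM_ex]
    simp [rowM, ← hf, ← ha, ← hw, J.η_ne]
    rw [hc]
    field_simp
    ring
  have := hP _ he
  rwa [Subgroup.mul_mem_cancel_left W ht, Subgroup.mul_mem_cancel_left W (hu hr)] at this

end Cfsg.Lib.Linear.ShortPres.SUThree
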