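import Cfsg.Agent.Lib.Linear.ShortPres.SUThree.Cells
import Cfsg.Agent.Lib.Linear.ShortPres.On

/-!
# The presentation of the three dimensional group
-/

set_option autoImplicit false
set_option linter.unusedSectionVars false

namespace Cfsg.Lib.Linear.ShortPres.SUThree

open Matrix Polynomial Cfsg.Lib.Linear.SUDegree Cfsg.Lib.Linear.Herm Cfsg.Lib.Linear.ShortPres.SUN
open scoped commutatorElement

variable {F : Type*} [Field F] [Fintype F] {J : Conj F}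

/-- The free root element. -/
abbrev xF : FreeGroup (Fin 3) := FreeGroup.of 0
/-- The free torus element. -/
abbrev hF : FreeGroup (Fin 3) := FreeGroup.of 1
/-- The free reflection. -/
abbrev tF : FreeGroup (Fin 3) := FreeGroup.of 2
/-- The free central element. -/
abbrev zF : FreeGroup (Fin 3) := ⁅xF, hF * xF * hF⁻¹⁆

section Word

variable {p : ℕ} [Fact p.Prime] [CharP F p]

theorem pow_img {S : M3 J → F → Prop} (h1 : S 1 0)
    (hm : ∀ {a b : M3 J} {x y : F}, S a x → S b y → S (a * b) (x + y)) {a : M3 J} {x : F} (ha : S a x) (k : ℕ) :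
    S (a ^ k) ((k : F) * x) := by
  induction k with
  | zero => simpa using h1
  | succ k ih =>
    have := hm ih ha
    rw [← pow_succ] at this
    rwa [Nat.cast_succ, add_mul, one_mul]

theorem word_img {S : M3 J → F → Prop} (h1 : S 1 0)
    (hm : ∀ {a b : M3 J} {x y : F}, S a x → S b y → S (a * b) (x + y)) {u g : M3 J} {r a : F}
    (hc : ∀ i, S (cj u g i) (r ^ i * a)) (P : (ZMod p)[X]) :
    S (word p u g P) ((letI := ZMod.algebra F p; aeval r P) * a) := by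
  letI := ZMod.algebra F p
  have key : ∀ n : ℕ, S ((List.range n).map fun i => cj u g i ^ (P.coeff i).val).prod
      (∑ i ∈ Finset.range n, P.coeff i • r ^ i * a) := by
    intro n
    induction n with
    | zero => simpa using h1
    | succ n ih =>
      rw [List.range_succ, List.map_append, List.prod_append, Finset.sum_range_succ]
      refine hm ih ?_
      have := pow_img h1 hm (hc n) (P.coeff n).val
      rw [Algebra.smul_def, mul_assoc]
      simp only [List.map_cons, List.map_nil, List.prod_cons, List.prod_nil, mul_one]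
      convert this using 2
      rw [ZMod.natCast_val]; rfl
  rw [aeval_eq_sum_range, Finset.sum_mul]
  exact key (P.natDegree + 1)

theorem Zc.mul' {a b : M3 J} {x y : F} (ha : Zc a x) (hb : Zc b y) : Zc (a * b) (x + y) :=
  (U0.mul ha hb).congr (by simp) (add_zero 0)

/-- The second coordinate. -/
abbrev Vc (g : M3 J) (v : F) : Prop := ∃ c, U0 J g c v

theorem Vc.mul' {a b : M3 J} {x y : F} : Vc a x → Vc b y → Vc (a * b) (x + y) :=
  fun ⟨_, ha⟩ ⟨_, hb⟩ => ⟨_, ha.mul hb⟩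

end Word

theorem lift_F {G : Type*} [Group G] (o : Fin 3 → G) :
    FreeGroup.lift o xF = o 0 ∧ FreeGroup.lift o hF = o 1 ∧ FreeGroup.lift o tF = o 2 ∧
      FreeGroup.lift o zF = ⁅o 0, o 1 * o 0 * (o 1)⁻¹⁆ :=
  ⟨FreeGroup.lift_apply_of, FreeGroup.lift_apply_of, FreeGroup.lift_apply_of,
    by simp [zF, xF, hF, map_commutatorElement]⟩

variable (Q : Pm J)

/-- The model generators. -/
noncomputable def gensM : Fin 3 → M3 J := ![xM Q, hM Q, tM J 1 (0 : Fin 1)]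

theorem lift_gensM : FreeGroup.lift (gensM Q) xF = xM Q ∧ FreeGroup.lift (gensM Q) hF = hM Q ∧
    FreeGroup.lift (gensM Q) tF = tM J 1 (0 : Fin 1) ∧ FreeGroup.lift (gensM Q) zF = zM Q := by
  obtain ⟨a, b, c, d⟩ := lift_F (gensM Q)
  exact ⟨a, b, c, d⟩

variable {Q} (hφ : J.σ (phi Q) ≠ phi Q)
include hφ

theorem surjF_Z {d : F} (hd : J.σ d = -d) : ∃ w ∈ orb zF hF, Zc (FreeGroup.lift (gensM Q) w) d := by
  obtain ⟨g, hg, e⟩ := surj_orbZ hφ hd
  obtain ⟨-, eh, -, ez⟩ := lift_gensM Q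
  rw [← eh, ← ez, ← map_orb] at hg
  obtain ⟨w, hw, rfl⟩ := hg
  exact ⟨w, hw, e⟩

theorem surjF_U {c v : F} (h : c + J.σ c + v * J.σ v = 0) :
    ∃ w ∈ orb xF hF, U0 J (FreeGroup.lift (gensM Q) w) c v := by
  obtain ⟨g, hg, e⟩ := surj_orb hφ h
  obtain ⟨ex, eh, -, -⟩ := lift_gensM Q
  rw [← eh, ← ex, ← map_orb] at hg
  obtain ⟨w, hw, rfl⟩ := hg
  exact ⟨w, hw, e⟩

/-- Correct an element by the centre. -/
theorem fixF {g g' : FreeGroup (Fin 3)} {c c' v : F} (hg : U0 J (FreeGroup.lift (gensM Q) g) c v)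
    (hg' : U0 J (FreeGroup.lift (gensM Q) g') c' v) :
    ∃ w ∈ orb zF hF, FreeGroup.lift (gensM Q) g = FreeGroup.lift (gensM Q) (g' * w) := by
  obtain ⟨w, hw, e⟩ := surjF_Z hφ (d := c - c') (by rw [map_sub]; linear_combination hg.rel - hg'.rel)
  refine ⟨w, hw, ?_⟩
  rw [map_mul]
  exact hg.unique ((hg'.mul e).congr (by simp) (add_zero v))

/-- A relation for one cell. -/
theorem cell_rel {c v : F} (h : c + J.σ c + v * J.σ v = 0) (hc : c ≠ 0) :
    ∃ E : FreeGroup (Fin 3) × FreeGroup (Fin 3),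
      FreeGroup.lift (gensM Q) E.1 = FreeGroup.lift (gensM Q) E.2 ∧
      ∀ (G : Type) [Group G] (o : Fin 3 → G) (π : G →* M3 J) (p e : ℕ) (D : TD Q p e π), (∀ i, π (o i) = gensM Q i) →
        D.x = o 0 → D.h = o 1 → D.t = o 2 → FreeGroup.lift o E.1 = FreeGroup.lift o E.2 → D.Known c v := by
  obtain ⟨ex, eh, et, -⟩ := lift_gensM Q
  obtain ⟨u, hu, hU⟩ := surjF_U hφ h
  obtain ⟨A, B, i, hi, hA, hB, e⟩ := cell_model hU hc
  obtain ⟨a, ha, hA'⟩ := surjF_U hφ hA.rel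
  obtain ⟨b, hb, hB'⟩ := surjF_U hφ hB.rel
  obtain ⟨k, hk⟩ := Q.gen i hi
  refine ⟨(tF * u * tF⁻¹, a * hF ^ k * tF * b), ?_, ?_⟩
  · simp only [map_mul, map_inv, map_pow, et, eh]
    rw [e, hA'.unique hA, hB'.unique hB, hM, lv_pow Q.ζ_ne, hk]
  · intro G _ o π p e D hπ hx hh ht hr
    obtain ⟨ox, oh, ot, -⟩ := lift_F o
    simp only [map_mul, map_inv, map_pow, oh, ot] at hr
    have hmem : ∀ w ∈ orb xF hF, FreeGroup.lift o w ∈ D.U := fun w hw => by
      have := Subgroup.mem_map_of_mem (FreeGroup.lift o) hw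
      rwa [map_orb, ox, oh, ← hx, ← hh] at this
    refine TD.Known.of_one D (hmem u hu) ?_ ⟨FreeGroup.lift o a * o 1 ^ k,
      mul_mem (D.U_le (hmem a ha)) (by rw [← hh]; exact D.h_mem k), FreeGroup.lift o b, D.U_le (hmem b hb),
      by rw [ht]; exact hr⟩
    have : π.comp (FreeGroup.lift o) = FreeGroup.lift (gensM Q) := FreeGroup.ext_hom _ _ fun j => by simp [hπ]
    rw [← MonoidHom.comp_apply, this]
    exact hU

/-- The presentation with twenty one relations. -/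
theorem bddOn_M3 (p : ℕ) [Fact p.Prime] [CharP F p] : BddOn (gensM Q) 21 := by
  classical
  obtain ⟨e, P, he, hPd, hpe, hP, he1⟩ := exists_poly Q p
  set L := FreeGroup.lift (gensM Q) with hL
  obtain ⟨Lx, Lh, Lt, Lz⟩ := lift_gensM Q
  rw [← hL] at Lx Lh Lt Lz
  obtain ⟨m, hm⟩ := Q.gen _ (n0_ne Q)
  have hnm : n0 Q ^ m = n0 Q ^ 2 := by
    rw [show n0 Q ^ m = (Q.ζ * J.σ Q.ζ) ^ m from rfl, mul_pow, ← map_pow, hm, n0_fix, pow_two]
  have hfm : phi Q ^ m = n0 Q := by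
    have h1 := (n0_act Q).2
    rw [← hm, map_pow] at h1
    rw [← hm]
    refine Eq.trans ?_ h1
    rw [phi, div_pow, ← pow_mul, ← pow_mul, mul_comm 2 m]
  have hpF : (p : F) = 0 := CharP.cast_eq_zero F p
  -- images of the free elements
  have Lcz : ∀ i, Zc (L (cj zF hF i)) (n0 Q ^ i * dz Q) := fun i => by
    rw [map_cj, Lz, Lh]; exact Zc_cj_zM Q i
  have Lcx : ∀ i, U0 J (L (cj xF hF i)) (n0 Q ^ i * Q.κ) (phi Q ^ i) := fun i => by
    rw [map_cj, Lx, Lh]; exact U0_cj_xM Q i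
  have Lcy : ∀ i, Vc (L (cj (hF * xF * hF⁻¹) (hF ^ m) i)) (phi Q * n0 Q ^ i) := fun i => by
    have e : cj (hF * xF * hF⁻¹) (hF ^ m) i = cj xF hF (m * i + 1) := by
      simp [cj, ← pow_mul, pow_succ, mul_assoc]
    rw [e]
    exact ⟨_, (Lcx _).congr rfl (by rw [pow_succ, pow_mul, hfm, mul_comm])⟩
  -- (2) commuting
  have hzz : ∀ i j, L (cj zF hF i) * L (cj zF hF j) = L (cj zF hF j) * L (cj zF hF i) := fun i j =>
    (Zc.mul' (Lcz i) (Lcz j)).unique ((Zc.mul' (Lcz j) (Lcz i)).congr (add_comm _ _) rfl)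
  have hxz : ∀ i, L xF * L (cj zF hF i) = L (cj zF hF i) * L xF := fun i => by
    have hx0 := Lcx 0
    rw [cj_zero] at hx0
    exact (hx0.mul (Lcz i)).unique (((Lcz i).mul hx0).congr (by simp [add_comm]) (by simp))
  -- (3)
  obtain ⟨r3, h3M, h3G⟩ : ∃ r : FreeGroup (Fin 3) × FreeGroup (Fin 3), L r.1 = L r.2 ∧
      ∀ (G : Type) [Group G] (o : Fin 3 → G), FreeGroup.lift o r.1 = FreeGroup.lift o r.2 →
        ∀ z : G, z = ⁅o 0, o 1 * o 0 * (o 1)⁻¹⁆ → Commute z (cj z (o 1) 1) →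
          cj z (o 1) e ∈ Subgroup.closure (cj z (o 1) '' Set.Iio e) → ∀ i, Commute z (cj z (o 1) i) := by
    by_cases hn1 : n0 Q + 1 = 0
    · refine ⟨(1, 1), rfl, fun G _ o _ z _ h1 hrec i => commute_cj_small he ?_ h1 hrec i⟩
      rw [he1 (eq_neg_of_add_eq_zero_left hn1)]; norm_num
    · obtain ⟨b, hb⟩ := Q.norm (n0 Q + 1) (by rw [map_add, n0_fix, map_one])
      obtain ⟨l, hl⟩ := Q.gen b (fun h => hn1 (by rw [← hb, h, mul_zero]))
      refine ⟨(cj zF hF l, cj zF hF 1 * zF), ?_, ?_⟩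
      · have hz0 := Lcz 0
        rw [cj_zero] at hz0
        rw [map_mul]
        refine (Lcz l).unique ((Zc.mul' (Lcz 1) hz0).congr ?_ rfl)
        rw [show n0 Q ^ l = (Q.ζ * J.σ Q.ζ) ^ l from rfl, mul_pow, ← map_pow, hl, mul_comm b, hb]
        ring
      · intro G _ o hr z hz h1 _
        simp only [map_mul, map_cj] at hr
        rw [(lift_F o).2.1, (lift_F o).2.2.2, ← hz] at hr
        exact commute_cj ((Commute.refl (o 1)).pow_right l) h1 hr
  -- (12)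
  obtain ⟨r12, h12M, h12G⟩ : ∃ r : FreeGroup (Fin 3) × FreeGroup (Fin 3), L r.1 = L r.2 ∧
      ((e = 1 ∧ r = (1, 1)) ∨ ∃ l, Q.ζ ^ l = n0 Q + 1 ∧ ∃ w ∈ orb zF hF,
        r = (cj xF hF l, cj xF hF m * xF * w)) := by
    by_cases hn1 : n0 Q + 1 = 0
    · exact ⟨(1, 1), rfl, Or.inl ⟨he1 (eq_neg_of_add_eq_zero_left hn1), rfl⟩⟩
    · obtain ⟨l, hl⟩ := Q.gen _ hn1
      have hfl : phi Q ^ l = n0 Q + 1 := by
        have h2 : J.σ (n0 Q + 1) = n0 Q + 1 := by rw [map_add, n0_fix, map_one]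
        rw [phi, div_pow, ← pow_mul, mul_comm 2 l, pow_mul, ← map_pow, hl, h2, pow_two, mul_div_assoc, div_self hn1,
          mul_one]
      obtain ⟨w, hw, ew⟩ := fixF hφ (g := cj xF hF l) (g' := cj xF hF m * xF) ((Lcx l).congr rfl hfl) (by
        rw [map_mul]
        have hx0 := Lcx 0
        rw [cj_zero] at hx0
        exact ((Lcx m).mul hx0).congr rfl (by rw [hfm, pow_zero]))
      exact ⟨_, ew, Or.inr ⟨l, hl, w, hw, rfl⟩⟩
  -- (9)
  obtain ⟨w9, hw9, e9⟩ : ∃ w ∈ orb zF hF, L (xF ^ p) = L w := by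
    obtain ⟨c, hc⟩ := pow_img (S := Vc) ⟨0, U0.one⟩ Vc.mul' (⟨_, U0_xM Q⟩ : Vc (xM Q) 1) p
    rw [hpF, zero_mul] at hc
    obtain ⟨w, hw, ew⟩ := fixF hφ (g := xF ^ p) (g' := 1) (by rw [map_pow, ← hL, Lx]; exact hc)
      (by rw [map_one]; exact U0.one)
    exact ⟨w, hw, by rw [ew, one_mul]⟩
  -- (10), (11)
  have hcomm : ∀ g : FreeGroup (Fin 3), (∃ v, Vc (L g) v) → ∃ w ∈ orb zF hF, L ⁅xF, g⁆ = L w := by
    rintro g ⟨v, c, hg⟩
    obtain ⟨w, hw, ew⟩ := fixF hφ (g := ⁅xF, g⁆) (g' := 1)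
      (by rw [map_commutatorElement, ← hL, Lx]; exact (U0_xM Q).comm hg) (by rw [map_one]; exact U0.one)
    exact ⟨w, hw, by rw [ew, one_mul]⟩
  obtain ⟨w10, hw10, e10⟩ := hcomm (cj xF (hF ^ m) 1) ⟨_, _, by rw [cj_pow_base]; exact Lcx _⟩
  obtain ⟨w11, hw11, e11⟩ := hcomm (cj (hF * xF * hF⁻¹) (hF ^ m) 1) ⟨_, Lcy 1⟩
  -- (13)
  obtain ⟨w13, hw13, e13⟩ : ∃ w ∈ orb zF hF, L (cj xF (hF ^ m) e) = L (word p xF (hF ^ m) P * w) := by
    have hc : ∀ i, Vc (cj (L xF) (L (hF ^ m)) i) (n0 Q ^ i * 1) := fun i => by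
      rw [← map_cj, cj_pow_base, mul_one]
      exact ⟨_, (Lcx _).congr rfl (by rw [pow_mul, hfm])⟩
    obtain ⟨c', hc'⟩ := word_img (S := Vc) ⟨0, U0.one⟩ Vc.mul' hc P
    rw [mul_one, hP] at hc'
    obtain ⟨c, hc''⟩ := hc e
    rw [← map_cj, mul_one] at hc''
    exact fixF hφ hc'' (by rw [map_word]; exact hc')
  -- (14)
  obtain ⟨a14, ha14, w14, hw14, e14⟩ : ∃ a ∈ orb xF (hF ^ m) ⊔ orb (hF * xF * hF⁻¹) (hF ^ m),
      ∃ w ∈ orb zF hF, L (hF * (hF * xF * hF⁻¹) * hF⁻¹) = L (a * w) := by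
    obtain ⟨a, b, ha, hb, hab⟩ := decomp hφ (phi Q ^ 2)
    have k1 : ∀ a : F, J.σ a = a → ∃ g ∈ orb xF (hF ^ m), Vc (L g) a := by
      intro a ha
      rcases eq_or_ne a 0 with rfl | h0
      · exact ⟨1, one_mem _, 0, by rw [map_one]; exact U0.one⟩
      obtain ⟨i, rfl⟩ := fix_pow Q ha h0
      exact ⟨_, cj_mem _ _ i, _, by rw [cj_pow_base]; exact (Lcx _).congr rfl (by rw [pow_mul, hfm])⟩
    have k2 : ∃ g ∈ orb (hF * xF * hF⁻¹) (hF ^ m), Vc (L g) (b * phi Q) := by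
      rcases eq_or_ne b 0 with rfl | h0
      · exact ⟨1, one_mem _, 0, by rw [map_one, zero_mul]; exact U0.one⟩
      obtain ⟨i, rfl⟩ := fix_pow Q hb h0
      exact ⟨_, cj_mem _ _ i, by rw [mul_comm]; exact Lcy i⟩
    obtain ⟨g1, hg1, c1, u1⟩ := k1 a ha
    obtain ⟨g2, hg2, c2, u2⟩ := k2
    refine ⟨g1 * g2, mul_mem (Subgroup.mem_sup_left hg1) (Subgroup.mem_sup_right hg2), ?_⟩
    have e2 : hF * (hF * xF * hF⁻¹) * hF⁻¹ = cj xF hF 2 := by simp [cj, pow_two, mul_assoc]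
    rw [e2]
    exact fixF hφ (Lcx 2) (by rw [map_mul]; exact (u1.mul u2).congr rfl hab.symm)
  -- (16), (17)
  obtain ⟨e0, he0⟩ := Q.gen (J.σ Q.ζ)⁻¹ (inv_ne_zero (sζ_ne Q))
  obtain ⟨N2, hN2⟩ := Q.gen (-1) (neg_ne_zero.2 one_ne_zero)
  -- cells
  obtain ⟨rη, hηM, hηG⟩ := cell_rel hφ (c := J.η) (v := 0) (by rw [J.η_skew]; simp) J.η_ne
  have hrel : ∀ r : ℕ, Q.κ * (Q.ζ ^ r * J.σ (Q.ζ ^ r)) + J.σ (Q.κ * (Q.ζ ^ r * J.σ (Q.ζ ^ r))) +
      Q.ζ ^ r * J.σ (Q.ζ ^ r) = 0 := fun r => by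
    rw [map_mul, map_mul, J.inv2]
    linear_combination (Q.ζ ^ r * J.σ (Q.ζ ^ r)) * Q.hκ
  choose rb hbM hbG using fun r : ℕ => cell_rel hφ (hrel r)
    (mul_ne_zero (TD.κ_ne (Q := Q)) (mul_ne_zero (pow_ne_zero r Q.ζ_ne) (by simpa using pow_ne_zero r Q.ζ_ne)))
  refine BddOn.present [(zF ^ p, 1), (zF * cj zF hF 1, cj zF hF 1 * zF), r3, (cj zF hF e, word p zF hF P),
    (xF * cj zF hF 0, cj zF hF 0 * xF), (xF * cj zF hF 1, cj zF hF 1 * xF), (xF * cj zF hF 2, cj zF hF 2 * xF),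
    (xF * cj zF hF 3, cj zF hF 3 * xF), (xF ^ p, w9), (⁅xF, cj xF (hF ^ m) 1⁆, w10),
    (⁅xF, cj (hF * xF * hF⁻¹) (hF ^ m) 1⁆, w11), r12, (cj xF (hF ^ m) e, word p xF (hF ^ m) P * w13),
    (hF * (hF * xF * hF⁻¹) * hF⁻¹, a14 * w14), (hF ^ orderOf Q.ζ, 1), (tF * hF * tF⁻¹, hF ^ e0),
    (tF * tF, hF ^ N2), rη, rb 0, rb 1, rb 2] (gensM Q) ?_ ?_ ?_
  · simp only [List.forall_mem_cons, List.forall_mem_singleton, List.not_mem_nil, IsEmpty.forall_iff,
      implies_true, and_true, ← hL]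
    refine ⟨?_, ?_, h3M, ?_, ?_, ?_, ?_, ?_, e9, e10, e11, h12M, e13, e14, ?_, ?_, ?_, hηM, hbM 0, hbM 1, hbM 2⟩
    · rw [map_pow, map_one]
      have hz0 := Lcz 0
      rw [cj_zero] at hz0
      have := pow_img (S := Zc) U0.one Zc.mul' hz0 p
      rw [hpF, zero_mul] at this
      exact this.unique U0.one
    · rw [map_mul, map_mul]
      have := hzz 0 1
      rwa [cj_zero] at this
    · have hc : ∀ i, Zc (cj (L zF) (L hF) i) (n0 Q ^ i * dz Q) := fun i => by rw [← map_cj]; exact Lcz i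
      have := word_img (S := Zc) U0.one Zc.mul' hc P
      rw [hP] at this
      rw [map_word]
      exact (Lcz e).unique this
    · rw [map_mul, map_mul]; exact hxz 0
    · rw [map_mul, map_mul]; exact hxz 1
    · rw [map_mul, map_mul]; exact hxz 2
    · rw [map_mul, map_mul]; exact hxz 3
    · rw [map_pow, map_one, Lh, hM, lv_pow Q.ζ_ne, pow_orderOf_eq_one, lv_one]
    · rw [map_mul, map_mul, map_inv, map_pow, Lh, Lt, hM, lv_pow Q.ζ_ne, he0, tM_lv Q.ζ_ne]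
    · rw [map_mul, map_pow, Lh, Lt, hM, lv_pow Q.ζ_ne, hN2, tM_sq]
  · rw [eq_top_iff, ← closure_top hφ, Subgroup.closure_le]
    rintro g (rfl | rfl | rfl)
    · exact Subgroup.subset_closure ⟨0, rfl⟩
    · exact Subgroup.subset_closure ⟨1, rfl⟩
    · exact Subgroup.subset_closure ⟨2, rfl⟩
  intro G _ o π ho hπ hr
  obtain ⟨ox, oh, ot, oz⟩ := lift_F o
  simp only [List.forall_mem_cons, List.forall_mem_singleton, List.not_mem_nil, IsEmpty.forall_iff,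
    implies_true, and_true] at hr
  obtain ⟨g1, g2, g3, g4, g5, g6, g7, g8, g9, g10, g11, g12, g13, g14, g15, g16, g17, gη, gb0, gb1, gb2⟩ := hr
  simp only [map_mul, map_inv, map_pow, map_one, map_cj, map_word, map_commutatorElement, ox, oh, ot, oz] at g1 g2 g4 g5 g6 g7 g8 g9 g10 g11 g13 g14 g15 g16 g17
  have hzmem : ∀ w ∈ orb zF hF, FreeGroup.lift o w ∈ orb ⁅o 0, o 1 * o 0 * (o 1)⁻¹⁆ (o 1) := fun w hw => by
    have := Subgroup.mem_map_of_mem (FreeGroup.lift o) hw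
    rwa [map_orb, oh, oz] at this
  let D0 : XH Q π := ⟨hφ, o 0, o 1, hπ 0, hπ 1, g15⟩
  have hrec : cj D0.z D0.h e ∈ Subgroup.closure (cj D0.z D0.h '' Set.Iio e) := by
    have h := word_mem_first (p := p) (u := D0.z) (g := D0.h) hPd ∅
    rw [Set.empty_union] at h
    show cj ⁅o 0, o 1 * o 0 * (o 1)⁻¹⁆ (o 1) e ∈ _
    rw [g4]
    exact h
  let D1 : ZD Q p e π :=
    { toXH := D0, hp := (Fact.out : p.Prime).pos, he := he, card := hpe, zp := g1,
      zz := h3G G o g3 _ rfl g2 hrec, zrec := hrec }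
  have hxz : ∀ i, Commute D1.x (cj D1.z D1.h i) := by
    have hsmall : ∀ i < 4, Commute D1.x (cj D1.z D1.h i) := by
      intro i hi
      interval_cases i
      exacts [g5, g6, g7, g8]
    rcases h12G with ⟨h1, -⟩ | ⟨l, hl, w, hw, rfl⟩
    · exact D1.xz_of_one h1 (by have := hsmall 0 (by norm_num); rwa [cj_zero] at this)
    · simp only [map_mul, map_cj, ox, oh] at g12
      exact D1.xz_of hl hm hsmall (hzmem w hw) g12
  let D2 : XZ Q p e π := { toZD := D1, m := m, hm := hm, xz := hxz }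
  have h10 : ⁅D2.x, cj D2.x (D2.h ^ D2.m) 1⁆ ∈ D2.Zs := by
    show ⁅o 0, cj (o 0) (o 1 ^ m) 1⁆ ∈ _
    rw [g10]; exact hzmem _ hw10
  have h11 : ⁅D2.x, cj (D2.h * D2.x * D2.h⁻¹) (D2.h ^ D2.m) 1⁆ ∈ D2.Zs := by
    show ⁅o 0, cj (o 1 * o 0 * (o 1)⁻¹) (o 1 ^ m) 1⁆ ∈ _
    rw [g11]; exact hzmem _ hw11
  have hqxp : D2.qx ^ p = 1 := by
    rw [XZ.qx, ← map_pow, D2.q_one]
    show o 0 ^ p ∈ _
    rw [g9]; exact hzmem _ hw9
  have hqrec : cj D2.qx D2.qH e ∈ Subgroup.closure (cj D2.qx D2.qH '' Set.Iio e) := by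
    have h := word_mem_first (p := p) (u := D2.qx) (g := D2.qH) hPd ∅
    rw [Set.empty_union] at h
    have hq : cj D2.qx D2.qH e = word p D2.qx D2.qH P := by
      rw [XZ.qH, XZ.qh, ← map_pow, XZ.qx, ← map_cj, ← map_word, ← inv_mul_eq_one, ← map_inv, ← map_mul, D2.q_one]
      show (cj (o 0) (o 1 ^ m) e)⁻¹ * ((D2.Nz.subtype) (word p D2.x₁ (D2.h₁ ^ D2.m) P)) ∈ _
      rw [map_word, map_pow]
      show (cj (o 0) (o 1 ^ m) e)⁻¹ * word p (o 0) (o 1 ^ m) P ∈ _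
      rw [g13, _root_.mul_inv_rev, inv_mul_cancel_right]
      exact inv_mem (hzmem _ hw13)
    rw [hq]; exact h
  have hqh2 : D2.qh * D2.qy * D2.qh⁻¹ ∈ orb D2.qx D2.qH ⊔ orb D2.qy D2.qH := by
    have ha : FreeGroup.lift o a14 ∈ orb (o 0) (o 1 ^ m) ⊔ orb (o 1 * o 0 * (o 1)⁻¹) (o 1 ^ m) := by
      have := Subgroup.mem_map_of_mem (FreeGroup.lift o) ha14
      rw [Subgroup.map_sup, map_orb, map_orb] at this
      simpa [ox, oh] using this
    have ha' : FreeGroup.lift o a14 ∈ (orb D2.x₁ (D2.h₁ ^ m) ⊔ orb (D2.h₁ * D2.x₁ * D2.h₁⁻¹) (D2.h₁ ^ m)).map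
        D2.Nz.subtype := by
      rw [Subgroup.map_sup, map_orb, map_orb, map_mul, map_mul, map_inv, map_pow]
      exact ha
    obtain ⟨a₁, ha₁, ea⟩ := ha'
    have hmem : D2.q a₁ ∈ orb D2.qx D2.qH ⊔ orb D2.qy D2.qH := by
      have := Subgroup.mem_map_of_mem D2.q ha₁
      rw [Subgroup.map_sup, map_orb, map_orb, map_mul, map_mul, map_inv, map_pow] at this
      exact this
    have e : D2.qh * D2.qy * D2.qh⁻¹ = D2.q a₁ := by
      rw [XZ.qy, XZ.qh, XZ.qx, ← map_inv, ← map_mul, ← map_mul, ← map_mul, ← map_mul, ← inv_mul_eq_one, ← map_inv,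
        ← map_mul, D2.q_one]
      show (o 1 * (o 1 * o 0 * (o 1)⁻¹) * (o 1)⁻¹)⁻¹ * (D2.Nz.subtype a₁) ∈ _
      rw [ea, g14, _root_.mul_inv_rev, inv_mul_cancel_right]
      exact inv_mem (hzmem _ hw14)
    rw [e]; exact hmem
  have hqq : (∀ i, Commute D2.qx (cj D2.qx D2.qH i)) ∧ ∀ i, Commute D2.qx (cj D2.qy D2.qH i) := by
    rcases h12G with ⟨h1, -⟩ | ⟨l, hl, w, hw, rfl⟩
    · have hxx := commute_cj_small (u := D2.qx) (g := D2.qH) he (by omega) (D2.qcomm_x h10) hqrec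
      refine ⟨hxx, fun i => ?_⟩
      have hqyrec : cj D2.qy D2.qH e ∈ Subgroup.closure (cj D2.qy D2.qH '' Set.Iio e) := by
        have h := Subgroup.mem_map_of_mem (MulAut.conj D2.qh).toMonoidHom hqrec
        have hc : ∀ j, (MulAut.conj D2.qh).toMonoidHom (cj D2.qx D2.qH j) = cj D2.qy D2.qH j := fun j => by
          rw [map_cj]
          congr 1
          simp [XZ.qH, MulAut.conj_apply, ((Commute.refl D2.qh).pow_right D2.m).eq]
        rw [MonoidHom.map_closure, hc, Set.image_image] at h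
        simpa only [hc] using h
      have hle := orb_eq_first (u := D2.qy) (g := D2.qH) he ∅ (by simp) (by simpa using hqyrec)
      have hc : Subgroup.closure (∅ ∪ cj D2.qy D2.qH '' Set.Iio e) ≤ Subgroup.centralizer ({D2.qx} : Set D2.Qt) := by
        rw [Subgroup.closure_le]
        rintro y (hy | ⟨j, hj, rfl⟩)
        · exact hy.elim
        · obtain rfl : j = 0 := by simp at hj; omega
          exact Subgroup.mem_centralizer_singleton_iff.2 (D2.qxy_zero).eq.symm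
      exact (Subgroup.mem_centralizer_singleton_iff.1 (hc (hle (cj_mem _ _ i)))).symm
    · simp only [map_mul, map_cj, ox, oh] at g12
      exact ⟨D2.qxx_of (hzmem w hw) g12 h10, D2.qxy_of (hzmem w hw) g12 h11⟩
  let D3 : UD Q p e π :=
    { toXZ := D2, qxp := hqxp, qxx := hqq.1, qxy := hqq.2, qrec := hqrec, qh2 := hqh2 }
  let D : TD Q p e π :=
    { toUD := D3, t := o 2, πt := hπ 2, e0 := e0, th := g16,
      tsq := by rw [g17]; exact Subgroup.npow_mem_zpowers _ _ }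
  refine D.injective ?_ (hηG G o π p e D hπ rfl rfl rfl gη) ?_
  · rw [eq_top_iff, ← ho, Subgroup.closure_le]
    rintro _ ⟨i, rfl⟩
    refine Subgroup.subset_closure ?_
    fin_cases i
    · exact Or.inl rfl
    · exact Or.inr (Or.inl rfl)
    · exact Or.inr (Or.inr rfl)
  · intro r hr'
    interval_cases r
    exacts [hbG 0 G o π p e D hπ rfl rfl rfl gb0, hbG 1 G o π p e D hπ rfl rfl rfl gb1,
      hbG 2 G o π p e D hπ rfl rfl rfl gb2]

end Cfsg.Lib.Linear.ShortPres.SUThree
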