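import Cfsg.Agent.Lib.Linear.ShortPres.SUThree.Orb

/-!
# Injectivity on the root group
-/

set_option autoImplicit false
set_option linter.unusedSectionVars false

namespace Cfsg.Lib.Linear.ShortPres.SUThree

open Matrix Polynomial Cfsg.Lib.Linear.SUDegree Cfsg.Lib.Linear.Herm Cfsg.Lib.Linear.ShortPres.SUN
open scoped commutatorElement

variable {F : Type*} [Field F] [Fintype F] {J : Conj F} {G : Type*} [Group G]

/-- The relations of the root group modulo its centre. -/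
structure UD (Q : Pm J) (p e : ℕ) (π : G →* M3 J) extends XZ Q p e π where
  qxp : toXZ.qx ^ p = 1
  qxx : ∀ i, Commute toXZ.qx (cj toXZ.qx toXZ.qH i)
  qxy : ∀ i, Commute toXZ.qx (cj toXZ.qy toXZ.qH i)
  qrec : cj toXZ.qx toXZ.qH e ∈ Subgroup.closure (cj toXZ.qx toXZ.qH '' Set.Iio e)
  qh2 : toXZ.qh * toXZ.qy * toXZ.qh⁻¹ ∈ orb toXZ.qx toXZ.qH ⊔ orb toXZ.qy toXZ.qH

namespace UD

variable {Q : Pm J} {p e : ℕ} {π : G →* M3 J} (D : UD Q p e π)

/-- Conjugation by the torus element. -/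
def ψ : D.Qt →* D.Qt := (MulAut.conj D.qh).toMonoidHom

theorem ψ_apply (a : D.Qt) : D.ψ a = D.qh * a * D.qh⁻¹ := rfl

theorem ψH : D.ψ D.qH = D.qH := by
  rw [ψ_apply, XZ.qH, mul_inv_eq_iff_eq_mul]
  exact ((Commute.refl D.qh).pow_right D.m).eq

theorem ψ_cjx (i : ℕ) : D.ψ (cj D.qx D.qH i) = cj D.qy D.qH i := by
  rw [map_cj, D.ψH]; rfl

theorem comm_xy (a b : ℕ) : Commute (cj D.qx D.qH a) (cj D.qy D.qH b) := by
  have hN : D.qH ^ orderOf Q.ζ = 1 := by
    rw [XZ.qH, ← pow_mul, mul_comm, pow_mul, D.qh_pow, one_pow]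
  obtain ⟨N, hN1⟩ : ∃ N, orderOf Q.ζ = N + 1 := ⟨_, (Nat.succ_pred_eq_of_pos (orderOf_pos_gen Q)).symm⟩
  have h := (D.qxy (b + a * N)).map (MulAut.conj (D.qH ^ a)).toMonoidHom
  simp only [MulEquiv.coe_toMonoidHom, MulAut.conj_apply] at h
  rw [← cj_add] at h
  have e1 : a + (b + a * N) = b + orderOf Q.ζ * a := by rw [hN1]; ring
  rw [e1, cj_mul_period hN] at h
  exact h

theorem comm_xx (a b : ℕ) : Commute (cj D.qx D.qH a) (cj D.qx D.qH b) :=
  orb_comm D.qxx (cj_mem _ _ a) (cj_mem _ _ b)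

theorem comm_yy (a b : ℕ) : Commute (cj D.qy D.qH a) (cj D.qy D.qH b) := by
  rw [← D.ψ_cjx, ← D.ψ_cjx]
  exact (D.comm_xx a b).map D.ψ

/-- The abelian image of the root group. -/
def Ub : Subgroup D.Qt := orb D.qx D.qH ⊔ orb D.qy D.qH

open scoped Classical in
theorem Ub_card : Finite D.Ub ∧ Nat.card D.Ub ≤ Nat.card (Fix J × Fix J) := by
  set s : Finset D.Qt := (Finset.range e).image (cj D.qx D.qH) ∪ (Finset.range e).image (cj D.qy D.qH) with hs
  have hcoe : (s : Set D.Qt) = cj D.qx D.qH '' Set.Iio e ∪ cj D.qy D.qH '' Set.Iio e := by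
    simp [hs, Finset.coe_range]
  have hgc : ∀ a ∈ (s : Set D.Qt), ∀ b ∈ (s : Set D.Qt), Commute a b := by
    rw [hcoe]
    rintro _ (⟨i, -, rfl⟩ | ⟨i, -, rfl⟩) _ (⟨j, -, rfl⟩ | ⟨j, -, rfl⟩)
    · exact D.comm_xx i j
    · exact D.comm_xy i j
    · exact (D.comm_xy j i).symm
    · exact D.comm_yy i j
  have hcomm : ∀ a ∈ Subgroup.closure (s : Set D.Qt), ∀ b ∈ Subgroup.closure (s : Set D.Qt), Commute a b := by
    intro a ha b hb
    induction ha, hb using Subgroup.closure_induction₂ with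
    | mem a b ha hb => exact hgc a ha b hb
    | one_left a _ => exact Commute.one_left a
    | one_right a _ => exact Commute.one_right a
    | mul_left a b c _ _ _ h1 h2 => exact h1.mul_left h2
    | mul_right a b c _ _ _ h1 h2 => exact h1.mul_right h2
    | inv_left a b _ _ h => exact h.inv_left
    | inv_right a b _ _ h => exact h.inv_right
  have hyp : D.qy ^ p = 1 := by rw [XZ.qy, conj_pow, D.qxp, mul_one, mul_inv_cancel]
  have hexp : ∀ a ∈ Subgroup.closure (s : Set D.Qt), a ^ p = 1 := by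
    intro a ha
    induction ha using Subgroup.closure_induction with
    | mem b hb =>
      rw [hcoe] at hb
      rcases hb with ⟨i, -, rfl⟩ | ⟨i, -, rfl⟩
      · exact cj_pow D.qxp i
      · exact cj_pow hyp i
    | one => exact one_pow p
    | mul a b ha hb h1 h2 => rw [(hcomm a ha b hb).mul_pow, h1, h2, mul_one]
    | inv a _ h => rw [inv_pow, h, inv_one]
  obtain ⟨hfin, hle⟩ := card_closure_le D.hp s hcomm hexp
  have hle' : Nat.card (Subgroup.closure (s : Set D.Qt)) ≤ Nat.card (Fix J × Fix J) := by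
    refine hle.trans ?_
    rw [Nat.card_prod]
    refine le_trans ?_ (Nat.mul_le_mul D.card D.card)
    rw [← pow_add]
    refine Nat.pow_le_pow_right D.hp ((Finset.card_union_le _ _).trans ?_)
    have h1 := Finset.card_image_le (s := Finset.range e) (f := cj D.qx D.qH)
    have h2 := Finset.card_image_le (s := Finset.range e) (f := cj D.qy D.qH)
    rw [Finset.card_range] at h1 h2
    omega
  have hUb : D.Ub = Subgroup.closure (s : Set D.Qt) := by
    refine le_antisymm (sup_le ?_ ?_) ?_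
    · refine (orb_eq_first D.he ∅ (by simp) (by simpa using D.qrec)).trans (Subgroup.closure_mono ?_)
      rw [hcoe, Set.empty_union]
      exact Set.subset_union_left
    · refine (orb_eq_first D.he ∅ (by simp) ?_).trans (Subgroup.closure_mono ?_)
      · rw [Set.empty_union]
        have h := Subgroup.mem_map_of_mem D.ψ D.qrec
        rw [MonoidHom.map_closure, D.ψ_cjx, Set.image_image] at h
        simpa only [D.ψ_cjx] using h
      · rw [hcoe, Set.empty_union]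
        exact Set.subset_union_right
    · rw [Subgroup.closure_le, hcoe]
      rintro _ (⟨i, -, rfl⟩ | ⟨i, -, rfl⟩)
      · exact Subgroup.mem_sup_left (cj_mem _ _ i)
      · exact Subgroup.mem_sup_right (cj_mem _ _ i)
  rw [hUb]
  exact ⟨hfin, hle'⟩

theorem Ub_ψ {a : D.Qt} (ha : a ∈ D.Ub) : D.ψ a ∈ D.Ub := by
  have hH : ∀ (j : ℕ) (b : D.Qt), b ∈ D.Ub → D.qH ^ j * b * (D.qH ^ j)⁻¹ ∈ D.Ub := by
    intro j
    show D.Ub ≤ D.Ub.comap (MulAut.conj (D.qH ^ j)).toMonoidHom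
    refine sup_le ?_ ?_
    · intro b hb
      exact Subgroup.mem_sup_left (orb_closed ((Commute.refl D.qH).pow_left j) (cj_mem D.qx D.qH j) hb)
    · intro b hb
      exact Subgroup.mem_sup_right (orb_closed ((Commute.refl D.qH).pow_left j) (cj_mem D.qy D.qH j) hb)
  have : D.Ub ≤ D.Ub.comap D.ψ := by
    refine sup_le ?_ ?_ <;> rw [orb, Subgroup.closure_le] <;> rintro _ ⟨i, rfl⟩
    · show D.ψ _ ∈ D.Ub
      rw [D.ψ_cjx]
      exact Subgroup.mem_sup_right (cj_mem _ _ i)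
    · show D.ψ _ ∈ D.Ub
      rw [map_cj, D.ψH, D.ψ_apply]
      exact hH i _ D.qh2
  exact this ha

theorem orb_le_Ub : orb D.qx D.qh ≤ D.Ub :=
  orb_le_of_closed (Subgroup.mem_sup_left (self_mem _ _)) fun a ha => by
    have := D.Ub_ψ ha
    rwa [D.ψ_apply] at this

/-- The decomposition of the root group. -/
theorem U_cases {u : G} (hu : u ∈ D.U) : ∃ (g : G) (a b : Fix J) (c : F), g⁻¹ * u ∈ D.Zs ∧
    U0 J (π g) c (a.1 + b.1 * phi Q) ∧ (a.1 = 0 → b.1 = 0 → g = 1) := by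
  classical
  have key : ∀ (k : ℕ) (a : Fix J), ∃ (g : D.Nz) (c : F),
      D.q g ∈ D.Ub ∧ U0 J (π (g : G)) c (a.1 * phi Q ^ (k % 2)) ∧ (a.1 = 0 → g = 1) := by
    intro k a
    rcases eq_or_ne a.1 0 with ha | ha
    · exact ⟨1, 0, by rw [map_one]; exact one_mem _,
        by rw [ha, zero_mul]; show U0 J (π 1) 0 0; rw [map_one]; exact U0.one, fun _ => rfl⟩
    obtain ⟨i, hi⟩ := fix_pow Q a.2 ha
    refine ⟨cj D.x₁ D.h₁ (D.m * i + k % 2), n0 Q ^ (D.m * i + k % 2) * Q.κ, ?_, ?_, fun h => absurd h ha⟩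
    · rw [map_cj]
      exact D.orb_le_Ub (cj_mem _ _ _)
    · show U0 J (π (cj D.x D.h _)) _ _
      rw [map_cj, D.πx, D.πh]
      refine (U0_cj_xM Q _).congr rfl ?_
      rw [pow_add, pow_mul, ← hi]
      congr 2
      have h1 := (n0_act Q).2
      rw [← D.hm, map_pow] at h1
      rw [← D.hm]
      refine Eq.trans ?_ h1
      rw [phi, div_pow, ← pow_mul, ← pow_mul, mul_comm 2 D.m]
  choose gA cA hgA hUA hA0 using key
  haveI := D.Ub_card.1
  let W : Fix J × Fix J → D.Ub := fun ab => ⟨D.q (gA 0 ab.1 * gA 1 ab.2), by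
    rw [map_mul]; exact mul_mem (hgA _ _) (hgA _ _)⟩
  have himg : ∀ a b : Fix J, ∃ c, U0 J (π ((gA 0 a * gA 1 b : D.Nz) : G)) c (a.1 + b.1 * phi Q) := fun a b =>
    ⟨_, by
      rw [Subgroup.coe_mul, map_mul]
      exact ((hUA 0 a).mul (hUA 1 b)).congr rfl (by norm_num)⟩
  have hW : Function.Bijective W := by
    refine Function.Injective.bijective_of_nat_card_le (fun ab cd h => ?_) D.Ub_card.2
    obtain ⟨a, b⟩ := ab; obtain ⟨a', b'⟩ := cd
    have h' : D.q (gA 0 a * gA 1 b) = D.q (gA 0 a' * gA 1 b') := congrArg Subtype.val h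
    rw [← inv_mul_eq_one, ← map_inv, ← map_mul, D.q_one] at h'
    obtain ⟨d, hd, -⟩ := D.Zs_exists _ h'
    obtain ⟨c, hc⟩ := himg a b
    obtain ⟨c', hc'⟩ := himg a' b'
    rw [Subgroup.coe_mul, Subgroup.coe_inv, map_mul, map_inv] at hd
    have hv := (hd.inj (hc.inv.mul hc')).2
    obtain ⟨e1, e2⟩ := indep D.hφ (a := a'.1 - a.1) (b := b'.1 - b.1) (by rw [map_sub, a.2, a'.2])
      (by rw [map_sub, b.2, b'.2]) (by linear_combination -hv)
    exact Prod.ext (Subtype.ext (sub_eq_zero.1 e1).symm) (Subtype.ext (sub_eq_zero.1 e2).symm)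
  have humap : u ∈ (orb D.x₁ D.h₁).map D.Nz.subtype := by rw [map_orb]; exact hu
  obtain ⟨u₁, hu₁, hu₁e⟩ := humap
  have hqu : D.q u₁ ∈ D.Ub := D.orb_le_Ub (by
    rw [XZ.qx, XZ.qh, ← map_orb]
    exact Subgroup.mem_map_of_mem _ hu₁)
  obtain ⟨⟨a, b⟩, hab⟩ := hW.2 ⟨_, hqu⟩
  have h' : D.q (gA 0 a * gA 1 b) = D.q u₁ := congrArg Subtype.val hab
  rw [← inv_mul_eq_one, ← map_inv, ← map_mul, D.q_one] at h'
  obtain ⟨c, hc⟩ := himg a b
  refine ⟨_, a, b, c, ?_, hc, fun ha hb => by rw [hA0 0 a ha, hA0 1 b hb, mul_one]; rfl⟩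
  rw [← hu₁e]
  exact h'

/-- The root group maps injectively. -/
theorem inj_U {u : G} (hu : u ∈ D.U) (h : π u = 1) : u = 1 := by
  obtain ⟨g, a, b, c, hz, hg, hg1⟩ := D.U_cases hu
  obtain ⟨d, hd, hd1⟩ := D.Zs_exists _ hz
  rw [map_mul, map_inv, h, mul_one] at hd
  have hv := (hd.inj hg.inv).2
  obtain ⟨ha, hb⟩ := indep D.hφ a.2 b.2 (by linear_combination hv)
  have hg' := hg1 ha hb
  subst hg'
  rw [inv_one, one_mul] at hd1
  exact hd1 h

theorem eq_U {a b : G} (ha : a ∈ D.U) (hb : b ∈ D.U) (e : π a = π b) : a = b :=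
  mul_inv_eq_one.1 (D.inj_U (mul_mem ha (inv_mem hb)) (by rw [map_mul, map_inv, e, mul_inv_cancel]))

end UD

end Cfsg.Lib.Linear.ShortPres.SUThree
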